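import Cfsg.Agent.Lib.ONMult.CoverData

/-! Generated: checks for the triple cover. -/

set_option autoImplicit false
set_option maxRecDepth 20000
set_option linter.all false
set_option Elab.async false

namespace CfsgLib.ONMult

open CfsgLib.SporRecognition.CosetCert

theorem lift12_c0 : allPow 122760 (liftStep [lstep W5, lstep W4, lstep W5, lstep W4, lstep W5, lstep W4, lstep W5, lstep W4, lstep W5, lstep W4, lstep W5, lstep W4, lstep W5, lstep W4, lstep W5, lstep W4] 0) 11 0 = true := by decide +kernel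
theorem lift12_c1 : allPow 122760 (liftStep [lstep W5, lstep W4, lstep W5, lstep W4, lstep W5, lstep W4, lstep W5, lstep W4, lstep W5, lstep W4, lstep W5, lstep W4, lstep W5, lstep W4, lstep W5, lstep W4] 0) 11 2048 = true := by decide +kernel
theorem lift12_c2 : allPow 122760 (liftStep [lstep W5, lstep W4, lstep W5, lstep W4, lstep W5, lstep W4, lstep W5, lstep W4, lstep W5, lstep W4, lstep W5, lstep W4, lstep W5, lstep W4, lstep W5, lstep W4] 0) 11 4096 = true := by decide +kernel
theorem lift12_c3 : allPow 122760 (liftStep [lstep W5, lstep W4, lstep W5, lstep W4, lstep W5, lstep W4, lstep W5, lstep W4, lstep W5, lstep W4, lstep W5, lstep W4, lstep W5, lstep W4, lstep W5, lstep W4] 0) 11 6144 = true := by decide +kernel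
theorem lift12_c4 : allPow 122760 (liftStep [lstep W5, lstep W4, lstep W5, lstep W4, lstep W5, lstep W4, lstep W5, lstep W4, lstep W5, lstep W4, lstep W5, lstep W4, lstep W5, lstep W4, lstep W5, lstep W4] 0) 11 8192 = true := by decide +kernel
theorem lift12_c5 : allPow 122760 (liftStep [lstep W5, lstep W4, lstep W5, lstep W4, lstep W5, lstep W4, lstep W5, lstep W4, lstep W5, lstep W4, lstep W5, lstep W4, lstep W5, lstep W4, lstep W5, lstep W4] 0) 11 10240 = true := by decide +kernel
theorem lift12_c6 : allPow 122760 (liftStep [lstep W5, lstep W4, lstep W5, lstep W4, lstep W5, lstep W4, lstep W5, lstep W4, lstep W5, lstep W4, lstep W5, lstep W4, lstep W5, lstep W4, lstep W5, lstep W4] 0) 11 12288 = true := by decide +kernel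
theorem lift12_c7 : allPow 122760 (liftStep [lstep W5, lstep W4, lstep W5, lstep W4, lstep W5, lstep W4, lstep W5, lstep W4, lstep W5, lstep W4, lstep W5, lstep W4, lstep W5, lstep W4, lstep W5, lstep W4] 0) 11 14336 = true := by decide +kernel
theorem lift12_c8 : allPow 122760 (liftStep [lstep W5, lstep W4, lstep W5, lstep W4, lstep W5, lstep W4, lstep W5, lstep W4, lstep W5, lstep W4, lstep W5, lstep W4, lstep W5, lstep W4, lstep W5, lstep W4] 0) 11 16384 = true := by decide +kernel
theorem lift12_c9 : allPow 122760 (liftStep [lstep W5, lstep W4, lstep W5, lstep W4, lstep W5, lstep W4, lstep W5, lstep W4, lstep W5, lstep W4, lstep W5, lstep W4, lstep W5, lstep W4, lstep W5, lstep W4] 0) 11 18432 = true := by decide +kernel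
theorem lift12_c10 : allPow 122760 (liftStep [lstep W5, lstep W4, lstep W5, lstep W4, lstep W5, lstep W4, lstep W5, lstep W4, lstep W5, lstep W4, lstep W5, lstep W4, lstep W5, lstep W4, lstep W5, lstep W4] 0) 11 20480 = true := by decide +kernel
theorem lift12_c11 : allPow 122760 (liftStep [lstep W5, lstep W4, lstep W5, lstep W4, lstep W5, lstep W4, lstep W5, lstep W4, lstep W5, lstep W4, lstep W5, lstep W4, lstep W5, lstep W4, lstep W5, lstep W4] 0) 11 22528 = true := by decide +kernel
theorem lift12_c12 : allPow 122760 (liftStep [lstep W5, lstep W4, lstep W5, lstep W4, lstep W5, lstep W4, lstep W5, lstep W4, lstep W5, lstep W4, lstep W5, lstep W4, lstep W5, lstep W4, lstep W5, lstep W4] 0) 11 24576 = true := by decide +kernel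
theorem lift12_c13 : allPow 122760 (liftStep [lstep W5, lstep W4, lstep W5, lstep W4, lstep W5, lstep W4, lstep W5, lstep W4, lstep W5, lstep W4, lstep W5, lstep W4, lstep W5, lstep W4, lstep W5, lstep W4] 0) 11 26624 = true := by decide +kernel
theorem lift12_c14 : allPow 122760 (liftStep [lstep W5, lstep W4, lstep W5, lstep W4, lstep W5, lstep W4, lstep W5, lstep W4, lstep W5, lstep W4, lstep W5, lstep W4, lstep W5, lstep W4, lstep W5, lstep W4] 0) 11 28672 = true := by decide +kernel
theorem lift12_c15 : allPow 122760 (liftStep [lstep W5, lstep W4, lstep W5, lstep W4, lstep W5, lstep W4, lstep W5, lstep W4, lstep W5, lstep W4, lstep W5, lstep W4, lstep W5, lstep W4, lstep W5, lstep W4] 0) 11 30720 = true := by decide +kernel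
theorem lift12_c16 : allPow 122760 (liftStep [lstep W5, lstep W4, lstep W5, lstep W4, lstep W5, lstep W4, lstep W5, lstep W4, lstep W5, lstep W4, lstep W5, lstep W4, lstep W5, lstep W4, lstep W5, lstep W4] 0) 11 32768 = true := by decide +kernel
theorem lift12_c17 : allPow 122760 (liftStep [lstep W5, lstep W4, lstep W5, lstep W4, lstep W5, lstep W4, lstep W5, lstep W4, lstep W5, lstep W4, lstep W5, lstep W4, lstep W5, lstep W4, lstep W5, lstep W4] 0) 11 34816 = true := by decide +kernel
theorem lift12_c18 : allPow 122760 (liftStep [lstep W5, lstep W4, lstep W5, lstep W4, lstep W5, lstep W4, lstep W5, lstep W4, lstep W5, lstep W4, lstep W5, lstep W4, lstep W5, lstep W4, lstep W5, lstep W4] 0) 11 36864 = true := by decide +kernel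
theorem lift12_c19 : allPow 122760 (liftStep [lstep W5, lstep W4, lstep W5, lstep W4, lstep W5, lstep W4, lstep W5, lstep W4, lstep W5, lstep W4, lstep W5, lstep W4, lstep W5, lstep W4, lstep W5, lstep W4] 0) 11 38912 = true := by decide +kernel
theorem lift12_c20 : allPow 122760 (liftStep [lstep W5, lstep W4, lstep W5, lstep W4, lstep W5, lstep W4, lstep W5, lstep W4, lstep W5, lstep W4, lstep W5, lstep W4, lstep W5, lstep W4, lstep W5, lstep W4] 0) 11 40960 = true := by decide +kernel
theorem lift12_c21 : allPow 122760 (liftStep [lstep W5, lstep W4, lstep W5, lstep W4, lstep W5, lstep W4, lstep W5, lstep W4, lstep W5, lstep W4, lstep W5, lstep W4, lstep W5, lstep W4, lstep W5, lstep W4] 0) 11 43008 = true := by decide +kernel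
theorem lift12_c22 : allPow 122760 (liftStep [lstep W5, lstep W4, lstep W5, lstep W4, lstep W5, lstep W4, lstep W5, lstep W4, lstep W5, lstep W4, lstep W5, lstep W4, lstep W5, lstep W4, lstep W5, lstep W4] 0) 11 45056 = true := by decide +kernel
theorem lift12_c23 : allPow 122760 (liftStep [lstep W5, lstep W4, lstep W5, lstep W4, lstep W5, lstep W4, lstep W5, lstep W4, lstep W5, lstep W4, lstep W5, lstep W4, lstep W5, lstep W4, lstep W5, lstep W4] 0) 11 47104 = true := by decide +kernel
theorem lift12_c24 : allPow 122760 (liftStep [lstep W5, lstep W4, lstep W5, lstep W4, lstep W5, lstep W4, lstep W5, lstep W4, lstep W5, lstep W4, lstep W5, lstep W4, lstep W5, lstep W4, lstep W5, lstep W4] 0) 11 49152 = true := by decide +kernel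
theorem lift12_c25 : allPow 122760 (liftStep [lstep W5, lstep W4, lstep W5, lstep W4, lstep W5, lstep W4, lstep W5, lstep W4, lstep W5, lstep W4, lstep W5, lstep W4, lstep W5, lstep W4, lstep W5, lstep W4] 0) 11 51200 = true := by decide +kernel
theorem lift12_c26 : allPow 122760 (liftStep [lstep W5, lstep W4, lstep W5, lstep W4, lstep W5, lstep W4, lstep W5, lstep W4, lstep W5, lstep W4, lstep W5, lstep W4, lstep W5, lstep W4, lstep W5, lstep W4] 0) 11 53248 = true := by decide +kernel
theorem lift12_c27 : allPow 122760 (liftStep [lstep W5, lstep W4, lstep W5, lstep W4, lstep W5, lstep W4, lstep W5, lstep W4, lstep W5, lstep W4, lstep W5, lstep W4, lstep W5, lstep W4, lstep W5, lstep W4] 0) 11 55296 = true := by decide +kernel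
theorem lift12_c28 : allPow 122760 (liftStep [lstep W5, lstep W4, lstep W5, lstep W4, lstep W5, lstep W4, lstep W5, lstep W4, lstep W5, lstep W4, lstep W5, lstep W4, lstep W5, lstep W4, lstep W5, lstep W4] 0) 11 57344 = true := by decide +kernel
theorem lift12_c29 : allPow 122760 (liftStep [lstep W5, lstep W4, lstep W5, lstep W4, lstep W5, lstep W4, lstep W5, lstep W4, lstep W5, lstep W4, lstep W5, lstep W4, lstep W5, lstep W4, lstep W5, lstep W4] 0) 11 59392 = true := by decide +kernel
theorem lift12_c30 : allPow 122760 (liftStep [lstep W5, lstep W4, lstep W5, lstep W4, lstep W5, lstep W4, lstep W5, lstep W4, lstep W5, lstep W4, lstep W5, lstep W4, lstep W5, lstep W4, lstep W5, lstep W4] 0) 11 61440 = true := by decide +kernel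
theorem lift12_c31 : allPow 122760 (liftStep [lstep W5, lstep W4, lstep W5, lstep W4, lstep W5, lstep W4, lstep W5, lstep W4, lstep W5, lstep W4, lstep W5, lstep W4, lstep W5, lstep W4, lstep W5, lstep W4] 0) 11 63488 = true := by decide +kernel
theorem lift12_c32 : allPow 122760 (liftStep [lstep W5, lstep W4, lstep W5, lstep W4, lstep W5, lstep W4, lstep W5, lstep W4, lstep W5, lstep W4, lstep W5, lstep W4, lstep W5, lstep W4, lstep W5, lstep W4] 0) 11 65536 = true := by decide +kernel
theorem lift12_c33 : allPow 122760 (liftStep [lstep W5, lstep W4, lstep W5, lstep W4, lstep W5, lstep W4, lstep W5, lstep W4, lstep W5, lstep W4, lstep W5, lstep W4, lstep W5, lstep W4, lstep W5, lstep W4] 0) 11 67584 = true := by decide +kernel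
theorem lift12_c34 : allPow 122760 (liftStep [lstep W5, lstep W4, lstep W5, lstep W4, lstep W5, lstep W4, lstep W5, lstep W4, lstep W5, lstep W4, lstep W5, lstep W4, lstep W5, lstep W4, lstep W5, lstep W4] 0) 11 69632 = true := by decide +kernel
theorem lift12_c35 : allPow 122760 (liftStep [lstep W5, lstep W4, lstep W5, lstep W4, lstep W5, lstep W4, lstep W5, lstep W4, lstep W5, lstep W4, lstep W5, lstep W4, lstep W5, lstep W4, lstep W5, lstep W4] 0) 11 71680 = true := by decide +kernel
theorem lift12_c36 : allPow 122760 (liftStep [lstep W5, lstep W4, lstep W5, lstep W4, lstep W5, lstep W4, lstep W5, lstep W4, lstep W5, lstep W4, lstep W5, lstep W4, lstep W5, lstep W4, lstep W5, lstep W4] 0) 11 73728 = true := by decide +kernel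
theorem lift12_c37 : allPow 122760 (liftStep [lstep W5, lstep W4, lstep W5, lstep W4, lstep W5, lstep W4, lstep W5, lstep W4, lstep W5, lstep W4, lstep W5, lstep W4, lstep W5, lstep W4, lstep W5, lstep W4] 0) 11 75776 = true := by decide +kernel
theorem lift12_c38 : allPow 122760 (liftStep [lstep W5, lstep W4, lstep W5, lstep W4, lstep W5, lstep W4, lstep W5, lstep W4, lstep W5, lstep W4, lstep W5, lstep W4, lstep W5, lstep W4, lstep W5, lstep W4] 0) 11 77824 = true := by decide +kernel
theorem lift12_c39 : allPow 122760 (liftStep [lstep W5, lstep W4, lstep W5, lstep W4, lstep W5, lstep W4, lstep W5, lstep W4, lstep W5, lstep W4, lstep W5, lstep W4, lstep W5, lstep W4, lstep W5, lstep W4] 0) 11 79872 = true := by decide +kernel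
theorem lift12_c40 : allPow 122760 (liftStep [lstep W5, lstep W4, lstep W5, lstep W4, lstep W5, lstep W4, lstep W5, lstep W4, lstep W5, lstep W4, lstep W5, lstep W4, lstep W5, lstep W4, lstep W5, lstep W4] 0) 11 81920 = true := by decide +kernel
theorem lift12_c41 : allPow 122760 (liftStep [lstep W5, lstep W4, lstep W5, lstep W4, lstep W5, lstep W4, lstep W5, lstep W4, lstep W5, lstep W4, lstep W5, lstep W4, lstep W5, lstep W4, lstep W5, lstep W4] 0) 11 83968 = true := by decide +kernel
theorem lift12_c42 : allPow 122760 (liftStep [lstep W5, lstep W4, lstep W5, lstep W4, lstep W5, lstep W4, lstep W5, lstep W4, lstep W5, lstep W4, lstep W5, lstep W4, lstep W5, lstep W4, lstep W5, lstep W4] 0) 11 86016 = true := by decide +kernel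
theorem lift12_c43 : allPow 122760 (liftStep [lstep W5, lstep W4, lstep W5, lstep W4, lstep W5, lstep W4, lstep W5, lstep W4, lstep W5, lstep W4, lstep W5, lstep W4, lstep W5, lstep W4, lstep W5, lstep W4] 0) 11 88064 = true := by decide +kernel
theorem lift12_c44 : allPow 122760 (liftStep [lstep W5, lstep W4, lstep W5, lstep W4, lstep W5, lstep W4, lstep W5, lstep W4, lstep W5, lstep W4, lstep W5, lstep W4, lstep W5, lstep W4, lstep W5, lstep W4] 0) 11 90112 = true := by decide +kernel
theorem lift12_c45 : allPow 122760 (liftStep [lstep W5, lstep W4, lstep W5, lstep W4, lstep W5, lstep W4, lstep W5, lstep W4, lstep W5, lstep W4, lstep W5, lstep W4, lstep W5, lstep W4, lstep W5, lstep W4] 0) 11 92160 = true := by decide +kernel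
theorem lift12_c46 : allPow 122760 (liftStep [lstep W5, lstep W4, lstep W5, lstep W4, lstep W5, lstep W4, lstep W5, lstep W4, lstep W5, lstep W4, lstep W5, lstep W4, lstep W5, lstep W4, lstep W5, lstep W4] 0) 11 94208 = true := by decide +kernel
theorem lift12_c47 : allPow 122760 (liftStep [lstep W5, lstep W4, lstep W5, lstep W4, lstep W5, lstep W4, lstep W5, lstep W4, lstep W5, lstep W4, lstep W5, lstep W4, lstep W5, lstep W4, lstep W5, lstep W4] 0) 11 96256 = true := by decide +kernel
theorem lift12_c48 : allPow 122760 (liftStep [lstep W5, lstep W4, lstep W5, lstep W4, lstep W5, lstep W4, lstep W5, lstep W4, lstep W5, lstep W4, lstep W5, lstep W4, lstep W5, lstep W4, lstep W5, lstep W4] 0) 11 98304 = true := by decide +kernel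
theorem lift12_c49 : allPow 122760 (liftStep [lstep W5, lstep W4, lstep W5, lstep W4, lstep W5, lstep W4, lstep W5, lstep W4, lstep W5, lstep W4, lstep W5, lstep W4, lstep W5, lstep W4, lstep W5, lstep W4] 0) 11 100352 = true := by decide +kernel
theorem lift12_c50 : allPow 122760 (liftStep [lstep W5, lstep W4, lstep W5, lstep W4, lstep W5, lstep W4, lstep W5, lstep W4, lstep W5, lstep W4, lstep W5, lstep W4, lstep W5, lstep W4, lstep W5, lstep W4] 0) 11 102400 = true := by decide +kernel
theorem lift12_c51 : allPow 122760 (liftStep [lstep W5, lstep W4, lstep W5, lstep W4, lstep W5, lstep W4, lstep W5, lstep W4, lstep W5, lstep W4, lstep W5, lstep W4, lstep W5, lstep W4, lstep W5, lstep W4] 0) 11 104448 = true := by decide +kernel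
theorem lift12_c52 : allPow 122760 (liftStep [lstep W5, lstep W4, lstep W5, lstep W4, lstep W5, lstep W4, lstep W5, lstep W4, lstep W5, lstep W4, lstep W5, lstep W4, lstep W5, lstep W4, lstep W5, lstep W4] 0) 11 106496 = true := by decide +kernel
theorem lift12_c53 : allPow 122760 (liftStep [lstep W5, lstep W4, lstep W5, lstep W4, lstep W5, lstep W4, lstep W5, lstep W4, lstep W5, lstep W4, lstep W5, lstep W4, lstep W5, lstep W4, lstep W5, lstep W4] 0) 11 108544 = true := by decide +kernel
theorem lift12_c54 : allPow 122760 (liftStep [lstep W5, lstep W4, lstep W5, lstep W4, lstep W5, lstep W4, lstep W5, lstep W4, lstep W5, lstep W4, lstep W5, lstep W4, lstep W5, lstep W4, lstep W5, lstep W4] 0) 11 110592 = true := by decide +kernel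
theorem lift12_c55 : allPow 122760 (liftStep [lstep W5, lstep W4, lstep W5, lstep W4, lstep W5, lstep W4, lstep W5, lstep W4, lstep W5, lstep W4, lstep W5, lstep W4, lstep W5, lstep W4, lstep W5, lstep W4] 0) 11 112640 = true := by decide +kernel
theorem lift12_c56 : allPow 122760 (liftStep [lstep W5, lstep W4, lstep W5, lstep W4, lstep W5, lstep W4, lstep W5, lstep W4, lstep W5, lstep W4, lstep W5, lstep W4, lstep W5, lstep W4, lstep W5, lstep W4] 0) 11 114688 = true := by decide +kernel
theorem lift12_c57 : allPow 122760 (liftStep [lstep W5, lstep W4, lstep W5, lstep W4, lstep W5, lstep W4, lstep W5, lstep W4, lstep W5, lstep W4, lstep W5, lstep W4, lstep W5, lstep W4, lstep W5, lstep W4] 0) 11 116736 = true := by decide +kernel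
theorem lift12_c58 : allPow 122760 (liftStep [lstep W5, lstep W4, lstep W5, lstep W4, lstep W5, lstep W4, lstep W5, lstep W4, lstep W5, lstep W4, lstep W5, lstep W4, lstep W5, lstep W4, lstep W5, lstep W4] 0) 11 118784 = true := by decide +kernel
theorem lift12_c59 : allPow 122760 (liftStep [lstep W5, lstep W4, lstep W5, lstep W4, lstep W5, lstep W4, lstep W5, lstep W4, lstep W5, lstep W4, lstep W5, lstep W4, lstep W5, lstep W4, lstep W5, lstep W4] 0) 11 120832 = true := by decide +kernel
theorem lift12 : allBelow 17 122760 (liftStep [lstep W5, lstep W4, lstep W5, lstep W4, lstep W5, lstep W4, lstep W5, lstep W4, lstep W5, lstep W4, lstep W5, lstep W4, lstep W5, lstep W4, lstep W5, lstep W4] 0) = true :=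
  allBelow_of_upto (hi := 122880)
    (Upto.trans (mid := 61440) (Upto.trans (mid := 30720) (Upto.trans (mid := 14336) (Upto.trans (mid := 6144) (Upto.trans (mid := 2048) ((Upto.of_pow lift12_c0 (Nat.le_refl _)) : Upto _ _ 0 (0 + 2 ^ 11))
    (Upto.trans (mid := 4096) ((Upto.of_pow lift12_c1 (Nat.le_refl _)) : Upto _ _ 2048 (2048 + 2 ^ 11))
    ((Upto.of_pow lift12_c2 (Nat.le_refl _)) : Upto _ _ 4096 (4096 + 2 ^ 11))))
    (Upto.trans (mid := 10240) (Upto.trans (mid := 8192) ((Upto.of_pow lift12_c3 (Nat.le_refl _)) : Upto _ _ 6144 (6144 + 2 ^ 11))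
    ((Upto.of_pow lift12_c4 (Nat.le_refl _)) : Upto _ _ 8192 (8192 + 2 ^ 11)))
    (Upto.trans (mid := 12288) ((Upto.of_pow lift12_c5 (Nat.le_refl _)) : Upto _ _ 10240 (10240 + 2 ^ 11))
    ((Upto.of_pow lift12_c6 (Nat.le_refl _)) : Upto _ _ 12288 (12288 + 2 ^ 11)))))
    (Upto.trans (mid := 22528) (Upto.trans (mid := 18432) (Upto.trans (mid := 16384) ((Upto.of_pow lift12_c7 (Nat.le_refl _)) : Upto _ _ 14336 (14336 + 2 ^ 11))
    ((Upto.of_pow lift12_c8 (Nat.le_refl _)) : Upto _ _ 16384 (16384 + 2 ^ 11)))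
    (Upto.trans (mid := 20480) ((Upto.of_pow lift12_c9 (Nat.le_refl _)) : Upto _ _ 18432 (18432 + 2 ^ 11))
    ((Upto.of_pow lift12_c10 (Nat.le_refl _)) : Upto _ _ 20480 (20480 + 2 ^ 11))))
    (Upto.trans (mid := 26624) (Upto.trans (mid := 24576) ((Upto.of_pow lift12_c11 (Nat.le_refl _)) : Upto _ _ 22528 (22528 + 2 ^ 11))
    ((Upto.of_pow lift12_c12 (Nat.le_refl _)) : Upto _ _ 24576 (24576 + 2 ^ 11)))
    (Upto.trans (mid := 28672) ((Upto.of_pow lift12_c13 (Nat.le_refl _)) : Upto _ _ 26624 (26624 + 2 ^ 11))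
    ((Upto.of_pow lift12_c14 (Nat.le_refl _)) : Upto _ _ 28672 (28672 + 2 ^ 11))))))
    (Upto.trans (mid := 45056) (Upto.trans (mid := 36864) (Upto.trans (mid := 32768) ((Upto.of_pow lift12_c15 (Nat.le_refl _)) : Upto _ _ 30720 (30720 + 2 ^ 11))
    (Upto.trans (mid := 34816) ((Upto.of_pow lift12_c16 (Nat.le_refl _)) : Upto _ _ 32768 (32768 + 2 ^ 11))
    ((Upto.of_pow lift12_c17 (Nat.le_refl _)) : Upto _ _ 34816 (34816 + 2 ^ 11))))
    (Upto.trans (mid := 40960) (Upto.trans (mid := 38912) ((Upto.of_pow lift12_c18 (Nat.le_refl _)) : Upto _ _ 36864 (36864 + 2 ^ 11))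
    ((Upto.of_pow lift12_c19 (Nat.le_refl _)) : Upto _ _ 38912 (38912 + 2 ^ 11)))
    (Upto.trans (mid := 43008) ((Upto.of_pow lift12_c20 (Nat.le_refl _)) : Upto _ _ 40960 (40960 + 2 ^ 11))
    ((Upto.of_pow lift12_c21 (Nat.le_refl _)) : Upto _ _ 43008 (43008 + 2 ^ 11)))))
    (Upto.trans (mid := 53248) (Upto.trans (mid := 49152) (Upto.trans (mid := 47104) ((Upto.of_pow lift12_c22 (Nat.le_refl _)) : Upto _ _ 45056 (45056 + 2 ^ 11))
    ((Upto.of_pow lift12_c23 (Nat.le_refl _)) : Upto _ _ 47104 (47104 + 2 ^ 11)))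
    (Upto.trans (mid := 51200) ((Upto.of_pow lift12_c24 (Nat.le_refl _)) : Upto _ _ 49152 (49152 + 2 ^ 11))
    ((Upto.of_pow lift12_c25 (Nat.le_refl _)) : Upto _ _ 51200 (51200 + 2 ^ 11))))
    (Upto.trans (mid := 57344) (Upto.trans (mid := 55296) ((Upto.of_pow lift12_c26 (Nat.le_refl _)) : Upto _ _ 53248 (53248 + 2 ^ 11))
    ((Upto.of_pow lift12_c27 (Nat.le_refl _)) : Upto _ _ 55296 (55296 + 2 ^ 11)))
    (Upto.trans (mid := 59392) ((Upto.of_pow lift12_c28 (Nat.le_refl _)) : Upto _ _ 57344 (57344 + 2 ^ 11))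
    ((Upto.of_pow lift12_c29 (Nat.le_refl _)) : Upto _ _ 59392 (59392 + 2 ^ 11)))))))
    (Upto.trans (mid := 92160) (Upto.trans (mid := 75776) (Upto.trans (mid := 67584) (Upto.trans (mid := 63488) ((Upto.of_pow lift12_c30 (Nat.le_refl _)) : Upto _ _ 61440 (61440 + 2 ^ 11))
    (Upto.trans (mid := 65536) ((Upto.of_pow lift12_c31 (Nat.le_refl _)) : Upto _ _ 63488 (63488 + 2 ^ 11))
    ((Upto.of_pow lift12_c32 (Nat.le_refl _)) : Upto _ _ 65536 (65536 + 2 ^ 11))))
    (Upto.trans (mid := 71680) (Upto.trans (mid := 69632) ((Upto.of_pow lift12_c33 (Nat.le_refl _)) : Upto _ _ 67584 (67584 + 2 ^ 11))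
    ((Upto.of_pow lift12_c34 (Nat.le_refl _)) : Upto _ _ 69632 (69632 + 2 ^ 11)))
    (Upto.trans (mid := 73728) ((Upto.of_pow lift12_c35 (Nat.le_refl _)) : Upto _ _ 71680 (71680 + 2 ^ 11))
    ((Upto.of_pow lift12_c36 (Nat.le_refl _)) : Upto _ _ 73728 (73728 + 2 ^ 11)))))
    (Upto.trans (mid := 83968) (Upto.trans (mid := 79872) (Upto.trans (mid := 77824) ((Upto.of_pow lift12_c37 (Nat.le_refl _)) : Upto _ _ 75776 (75776 + 2 ^ 11))
    ((Upto.of_pow lift12_c38 (Nat.le_refl _)) : Upto _ _ 77824 (77824 + 2 ^ 11)))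
    (Upto.trans (mid := 81920) ((Upto.of_pow lift12_c39 (Nat.le_refl _)) : Upto _ _ 79872 (79872 + 2 ^ 11))
    ((Upto.of_pow lift12_c40 (Nat.le_refl _)) : Upto _ _ 81920 (81920 + 2 ^ 11))))
    (Upto.trans (mid := 88064) (Upto.trans (mid := 86016) ((Upto.of_pow lift12_c41 (Nat.le_refl _)) : Upto _ _ 83968 (83968 + 2 ^ 11))
    ((Upto.of_pow lift12_c42 (Nat.le_refl _)) : Upto _ _ 86016 (86016 + 2 ^ 11)))
    (Upto.trans (mid := 90112) ((Upto.of_pow lift12_c43 (Nat.le_refl _)) : Upto _ _ 88064 (88064 + 2 ^ 11))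
    ((Upto.of_pow lift12_c44 (Nat.le_refl _)) : Upto _ _ 90112 (90112 + 2 ^ 11))))))
    (Upto.trans (mid := 106496) (Upto.trans (mid := 98304) (Upto.trans (mid := 94208) ((Upto.of_pow lift12_c45 (Nat.le_refl _)) : Upto _ _ 92160 (92160 + 2 ^ 11))
    (Upto.trans (mid := 96256) ((Upto.of_pow lift12_c46 (Nat.le_refl _)) : Upto _ _ 94208 (94208 + 2 ^ 11))
    ((Upto.of_pow lift12_c47 (Nat.le_refl _)) : Upto _ _ 96256 (96256 + 2 ^ 11))))
    (Upto.trans (mid := 102400) (Upto.trans (mid := 100352) ((Upto.of_pow lift12_c48 (Nat.le_refl _)) : Upto _ _ 98304 (98304 + 2 ^ 11))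
    ((Upto.of_pow lift12_c49 (Nat.le_refl _)) : Upto _ _ 100352 (100352 + 2 ^ 11)))
    (Upto.trans (mid := 104448) ((Upto.of_pow lift12_c50 (Nat.le_refl _)) : Upto _ _ 102400 (102400 + 2 ^ 11))
    ((Upto.of_pow lift12_c51 (Nat.le_refl _)) : Upto _ _ 104448 (104448 + 2 ^ 11)))))
    (Upto.trans (mid := 114688) (Upto.trans (mid := 110592) (Upto.trans (mid := 108544) ((Upto.of_pow lift12_c52 (Nat.le_refl _)) : Upto _ _ 106496 (106496 + 2 ^ 11))
    ((Upto.of_pow lift12_c53 (Nat.le_refl _)) : Upto _ _ 108544 (108544 + 2 ^ 11)))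
    (Upto.trans (mid := 112640) ((Upto.of_pow lift12_c54 (Nat.le_refl _)) : Upto _ _ 110592 (110592 + 2 ^ 11))
    ((Upto.of_pow lift12_c55 (Nat.le_refl _)) : Upto _ _ 112640 (112640 + 2 ^ 11))))
    (Upto.trans (mid := 118784) (Upto.trans (mid := 116736) ((Upto.of_pow lift12_c56 (Nat.le_refl _)) : Upto _ _ 114688 (114688 + 2 ^ 11))
    ((Upto.of_pow lift12_c57 (Nat.le_refl _)) : Upto _ _ 116736 (116736 + 2 ^ 11)))
    (Upto.trans (mid := 120832) ((Upto.of_pow lift12_c58 (Nat.le_refl _)) : Upto _ _ 118784 (118784 + 2 ^ 11))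
    ((Upto.of_pow lift12_c59 (Nat.le_refl _)) : Upto _ _ 120832 (120832 + 2 ^ 11))))))))
    (by decide) (by decide)
theorem lift13_c0 : allPow 122760 (liftStep [lstep W6, lstep W4, lstep W6, lstep W4] 0) 11 0 = true := by decide +kernel
theorem lift13_c1 : allPow 122760 (liftStep [lstep W6, lstep W4, lstep W6, lstep W4] 0) 11 2048 = true := by decide +kernel
theorem lift13_c2 : allPow 122760 (liftStep [lstep W6, lstep W4, lstep W6, lstep W4] 0) 11 4096 = true := by decide +kernel
theorem lift13_c3 : allPow 122760 (liftStep [lstep W6, lstep W4, lstep W6, lstep W4] 0) 11 6144 = true := by decide +kernel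
theorem lift13_c4 : allPow 122760 (liftStep [lstep W6, lstep W4, lstep W6, lstep W4] 0) 11 8192 = true := by decide +kernel
theorem lift13_c5 : allPow 122760 (liftStep [lstep W6, lstep W4, lstep W6, lstep W4] 0) 11 10240 = true := by decide +kernel
theorem lift13_c6 : allPow 122760 (liftStep [lstep W6, lstep W4, lstep W6, lstep W4] 0) 11 12288 = true := by decide +kernel
theorem lift13_c7 : allPow 122760 (liftStep [lstep W6, lstep W4, lstep W6, lstep W4] 0) 11 14336 = true := by decide +kernel
theorem lift13_c8 : allPow 122760 (liftStep [lstep W6, lstep W4, lstep W6, lstep W4] 0) 11 16384 = true := by decide +kernel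
theorem lift13_c9 : allPow 122760 (liftStep [lstep W6, lstep W4, lstep W6, lstep W4] 0) 11 18432 = true := by decide +kernel
theorem lift13_c10 : allPow 122760 (liftStep [lstep W6, lstep W4, lstep W6, lstep W4] 0) 11 20480 = true := by decide +kernel
theorem lift13_c11 : allPow 122760 (liftStep [lstep W6, lstep W4, lstep W6, lstep W4] 0) 11 22528 = true := by decide +kernel
theorem lift13_c12 : allPow 122760 (liftStep [lstep W6, lstep W4, lstep W6, lstep W4] 0) 11 24576 = true := by decide +kernel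
theorem lift13_c13 : allPow 122760 (liftStep [lstep W6, lstep W4, lstep W6, lstep W4] 0) 11 26624 = true := by decide +kernel
theorem lift13_c14 : allPow 122760 (liftStep [lstep W6, lstep W4, lstep W6, lstep W4] 0) 11 28672 = true := by decide +kernel
theorem lift13_c15 : allPow 122760 (liftStep [lstep W6, lstep W4, lstep W6, lstep W4] 0) 11 30720 = true := by decide +kernel
theorem lift13_c16 : allPow 122760 (liftStep [lstep W6, lstep W4, lstep W6, lstep W4] 0) 11 32768 = true := by decide +kernel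
theorem lift13_c17 : allPow 122760 (liftStep [lstep W6, lstep W4, lstep W6, lstep W4] 0) 11 34816 = true := by decide +kernel
theorem lift13_c18 : allPow 122760 (liftStep [lstep W6, lstep W4, lstep W6, lstep W4] 0) 11 36864 = true := by decide +kernel
theorem lift13_c19 : allPow 122760 (liftStep [lstep W6, lstep W4, lstep W6, lstep W4] 0) 11 38912 = true := by decide +kernel
theorem lift13_c20 : allPow 122760 (liftStep [lstep W6, lstep W4, lstep W6, lstep W4] 0) 11 40960 = true := by decide +kernel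
theorem lift13_c21 : allPow 122760 (liftStep [lstep W6, lstep W4, lstep W6, lstep W4] 0) 11 43008 = true := by decide +kernel
theorem lift13_c22 : allPow 122760 (liftStep [lstep W6, lstep W4, lstep W6, lstep W4] 0) 11 45056 = true := by decide +kernel
theorem lift13_c23 : allPow 122760 (liftStep [lstep W6, lstep W4, lstep W6, lstep W4] 0) 11 47104 = true := by decide +kernel
theorem lift13_c24 : allPow 122760 (liftStep [lstep W6, lstep W4, lstep W6, lstep W4] 0) 11 49152 = true := by decide +kernel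
theorem lift13_c25 : allPow 122760 (liftStep [lstep W6, lstep W4, lstep W6, lstep W4] 0) 11 51200 = true := by decide +kernel
theorem lift13_c26 : allPow 122760 (liftStep [lstep W6, lstep W4, lstep W6, lstep W4] 0) 11 53248 = true := by decide +kernel
theorem lift13_c27 : allPow 122760 (liftStep [lstep W6, lstep W4, lstep W6, lstep W4] 0) 11 55296 = true := by decide +kernel
theorem lift13_c28 : allPow 122760 (liftStep [lstep W6, lstep W4, lstep W6, lstep W4] 0) 11 57344 = true := by decide +kernel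
theorem lift13_c29 : allPow 122760 (liftStep [lstep W6, lstep W4, lstep W6, lstep W4] 0) 11 59392 = true := by decide +kernel
theorem lift13_c30 : allPow 122760 (liftStep [lstep W6, lstep W4, lstep W6, lstep W4] 0) 11 61440 = true := by decide +kernel
theorem lift13_c31 : allPow 122760 (liftStep [lstep W6, lstep W4, lstep W6, lstep W4] 0) 11 63488 = true := by decide +kernel
theorem lift13_c32 : allPow 122760 (liftStep [lstep W6, lstep W4, lstep W6, lstep W4] 0) 11 65536 = true := by decide +kernel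
theorem lift13_c33 : allPow 122760 (liftStep [lstep W6, lstep W4, lstep W6, lstep W4] 0) 11 67584 = true := by decide +kernel
theorem lift13_c34 : allPow 122760 (liftStep [lstep W6, lstep W4, lstep W6, lstep W4] 0) 11 69632 = true := by decide +kernel
theorem lift13_c35 : allPow 122760 (liftStep [lstep W6, lstep W4, lstep W6, lstep W4] 0) 11 71680 = true := by decide +kernel
theorem lift13_c36 : allPow 122760 (liftStep [lstep W6, lstep W4, lstep W6, lstep W4] 0) 11 73728 = true := by decide +kernel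
theorem lift13_c37 : allPow 122760 (liftStep [lstep W6, lstep W4, lstep W6, lstep W4] 0) 11 75776 = true := by decide +kernel
theorem lift13_c38 : allPow 122760 (liftStep [lstep W6, lstep W4, lstep W6, lstep W4] 0) 11 77824 = true := by decide +kernel
theorem lift13_c39 : allPow 122760 (liftStep [lstep W6, lstep W4, lstep W6, lstep W4] 0) 11 79872 = true := by decide +kernel
theorem lift13_c40 : allPow 122760 (liftStep [lstep W6, lstep W4, lstep W6, lstep W4] 0) 11 81920 = true := by decide +kernel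
theorem lift13_c41 : allPow 122760 (liftStep [lstep W6, lstep W4, lstep W6, lstep W4] 0) 11 83968 = true := by decide +kernel
theorem lift13_c42 : allPow 122760 (liftStep [lstep W6, lstep W4, lstep W6, lstep W4] 0) 11 86016 = true := by decide +kernel
theorem lift13_c43 : allPow 122760 (liftStep [lstep W6, lstep W4, lstep W6, lstep W4] 0) 11 88064 = true := by decide +kernel
theorem lift13_c44 : allPow 122760 (liftStep [lstep W6, lstep W4, lstep W6, lstep W4] 0) 11 90112 = true := by decide +kernel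
theorem lift13_c45 : allPow 122760 (liftStep [lstep W6, lstep W4, lstep W6, lstep W4] 0) 11 92160 = true := by decide +kernel
theorem lift13_c46 : allPow 122760 (liftStep [lstep W6, lstep W4, lstep W6, lstep W4] 0) 11 94208 = true := by decide +kernel
theorem lift13_c47 : allPow 122760 (liftStep [lstep W6, lstep W4, lstep W6, lstep W4] 0) 11 96256 = true := by decide +kernel
theorem lift13_c48 : allPow 122760 (liftStep [lstep W6, lstep W4, lstep W6, lstep W4] 0) 11 98304 = true := by decide +kernel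
theorem lift13_c49 : allPow 122760 (liftStep [lstep W6, lstep W4, lstep W6, lstep W4] 0) 11 100352 = true := by decide +kernel
theorem lift13_c50 : allPow 122760 (liftStep [lstep W6, lstep W4, lstep W6, lstep W4] 0) 11 102400 = true := by decide +kernel
theorem lift13_c51 : allPow 122760 (liftStep [lstep W6, lstep W4, lstep W6, lstep W4] 0) 11 104448 = true := by decide +kernel
theorem lift13_c52 : allPow 122760 (liftStep [lstep W6, lstep W4, lstep W6, lstep W4] 0) 11 106496 = true := by decide +kernel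
theorem lift13_c53 : allPow 122760 (liftStep [lstep W6, lstep W4, lstep W6, lstep W4] 0) 11 108544 = true := by decide +kernel
theorem lift13_c54 : allPow 122760 (liftStep [lstep W6, lstep W4, lstep W6, lstep W4] 0) 11 110592 = true := by decide +kernel
theorem lift13_c55 : allPow 122760 (liftStep [lstep W6, lstep W4, lstep W6, lstep W4] 0) 11 112640 = true := by decide +kernel
theorem lift13_c56 : allPow 122760 (liftStep [lstep W6, lstep W4, lstep W6, lstep W4] 0) 11 114688 = true := by decide +kernel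
theorem lift13_c57 : allPow 122760 (liftStep [lstep W6, lstep W4, lstep W6, lstep W4] 0) 11 116736 = true := by decide +kernel
theorem lift13_c58 : allPow 122760 (liftStep [lstep W6, lstep W4, lstep W6, lstep W4] 0) 11 118784 = true := by decide +kernel
theorem lift13_c59 : allPow 122760 (liftStep [lstep W6, lstep W4, lstep W6, lstep W4] 0) 11 120832 = true := by decide +kernel
theorem lift13 : allBelow 17 122760 (liftStep [lstep W6, lstep W4, lstep W6, lstep W4] 0) = true :=
  allBelow_of_upto (hi := 122880)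
    (Upto.trans (mid := 61440) (Upto.trans (mid := 30720) (Upto.trans (mid := 14336) (Upto.trans (mid := 6144) (Upto.trans (mid := 2048) ((Upto.of_pow lift13_c0 (Nat.le_refl _)) : Upto _ _ 0 (0 + 2 ^ 11))
    (Upto.trans (mid := 4096) ((Upto.of_pow lift13_c1 (Nat.le_refl _)) : Upto _ _ 2048 (2048 + 2 ^ 11))
    ((Upto.of_pow lift13_c2 (Nat.le_refl _)) : Upto _ _ 4096 (4096 + 2 ^ 11))))
    (Upto.trans (mid := 10240) (Upto.trans (mid := 8192) ((Upto.of_pow lift13_c3 (Nat.le_refl _)) : Upto _ _ 6144 (6144 + 2 ^ 11))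
    ((Upto.of_pow lift13_c4 (Nat.le_refl _)) : Upto _ _ 8192 (8192 + 2 ^ 11)))
    (Upto.trans (mid := 12288) ((Upto.of_pow lift13_c5 (Nat.le_refl _)) : Upto _ _ 10240 (10240 + 2 ^ 11))
    ((Upto.of_pow lift13_c6 (Nat.le_refl _)) : Upto _ _ 12288 (12288 + 2 ^ 11)))))
    (Upto.trans (mid := 22528) (Upto.trans (mid := 18432) (Upto.trans (mid := 16384) ((Upto.of_pow lift13_c7 (Nat.le_refl _)) : Upto _ _ 14336 (14336 + 2 ^ 11))
    ((Upto.of_pow lift13_c8 (Nat.le_refl _)) : Upto _ _ 16384 (16384 + 2 ^ 11)))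
    (Upto.trans (mid := 20480) ((Upto.of_pow lift13_c9 (Nat.le_refl _)) : Upto _ _ 18432 (18432 + 2 ^ 11))
    ((Upto.of_pow lift13_c10 (Nat.le_refl _)) : Upto _ _ 20480 (20480 + 2 ^ 11))))
    (Upto.trans (mid := 26624) (Upto.trans (mid := 24576) ((Upto.of_pow lift13_c11 (Nat.le_refl _)) : Upto _ _ 22528 (22528 + 2 ^ 11))
    ((Upto.of_pow lift13_c12 (Nat.le_refl _)) : Upto _ _ 24576 (24576 + 2 ^ 11)))
    (Upto.trans (mid := 28672) ((Upto.of_pow lift13_c13 (Nat.le_refl _)) : Upto _ _ 26624 (26624 + 2 ^ 11))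
    ((Upto.of_pow lift13_c14 (Nat.le_refl _)) : Upto _ _ 28672 (28672 + 2 ^ 11))))))
    (Upto.trans (mid := 45056) (Upto.trans (mid := 36864) (Upto.trans (mid := 32768) ((Upto.of_pow lift13_c15 (Nat.le_refl _)) : Upto _ _ 30720 (30720 + 2 ^ 11))
    (Upto.trans (mid := 34816) ((Upto.of_pow lift13_c16 (Nat.le_refl _)) : Upto _ _ 32768 (32768 + 2 ^ 11))
    ((Upto.of_pow lift13_c17 (Nat.le_refl _)) : Upto _ _ 34816 (34816 + 2 ^ 11))))
    (Upto.trans (mid := 40960) (Upto.trans (mid := 38912) ((Upto.of_pow lift13_c18 (Nat.le_refl _)) : Upto _ _ 36864 (36864 + 2 ^ 11))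
    ((Upto.of_pow lift13_c19 (Nat.le_refl _)) : Upto _ _ 38912 (38912 + 2 ^ 11)))
    (Upto.trans (mid := 43008) ((Upto.of_pow lift13_c20 (Nat.le_refl _)) : Upto _ _ 40960 (40960 + 2 ^ 11))
    ((Upto.of_pow lift13_c21 (Nat.le_refl _)) : Upto _ _ 43008 (43008 + 2 ^ 11)))))
    (Upto.trans (mid := 53248) (Upto.trans (mid := 49152) (Upto.trans (mid := 47104) ((Upto.of_pow lift13_c22 (Nat.le_refl _)) : Upto _ _ 45056 (45056 + 2 ^ 11))
    ((Upto.of_pow lift13_c23 (Nat.le_refl _)) : Upto _ _ 47104 (47104 + 2 ^ 11)))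
    (Upto.trans (mid := 51200) ((Upto.of_pow lift13_c24 (Nat.le_refl _)) : Upto _ _ 49152 (49152 + 2 ^ 11))
    ((Upto.of_pow lift13_c25 (Nat.le_refl _)) : Upto _ _ 51200 (51200 + 2 ^ 11))))
    (Upto.trans (mid := 57344) (Upto.trans (mid := 55296) ((Upto.of_pow lift13_c26 (Nat.le_refl _)) : Upto _ _ 53248 (53248 + 2 ^ 11))
    ((Upto.of_pow lift13_c27 (Nat.le_refl _)) : Upto _ _ 55296 (55296 + 2 ^ 11)))
    (Upto.trans (mid := 59392) ((Upto.of_pow lift13_c28 (Nat.le_refl _)) : Upto _ _ 57344 (57344 + 2 ^ 11))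
    ((Upto.of_pow lift13_c29 (Nat.le_refl _)) : Upto _ _ 59392 (59392 + 2 ^ 11)))))))
    (Upto.trans (mid := 92160) (Upto.trans (mid := 75776) (Upto.trans (mid := 67584) (Upto.trans (mid := 63488) ((Upto.of_pow lift13_c30 (Nat.le_refl _)) : Upto _ _ 61440 (61440 + 2 ^ 11))
    (Upto.trans (mid := 65536) ((Upto.of_pow lift13_c31 (Nat.le_refl _)) : Upto _ _ 63488 (63488 + 2 ^ 11))
    ((Upto.of_pow lift13_c32 (Nat.le_refl _)) : Upto _ _ 65536 (65536 + 2 ^ 11))))
    (Upto.trans (mid := 71680) (Upto.trans (mid := 69632) ((Upto.of_pow lift13_c33 (Nat.le_refl _)) : Upto _ _ 67584 (67584 + 2 ^ 11))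
    ((Upto.of_pow lift13_c34 (Nat.le_refl _)) : Upto _ _ 69632 (69632 + 2 ^ 11)))
    (Upto.trans (mid := 73728) ((Upto.of_pow lift13_c35 (Nat.le_refl _)) : Upto _ _ 71680 (71680 + 2 ^ 11))
    ((Upto.of_pow lift13_c36 (Nat.le_refl _)) : Upto _ _ 73728 (73728 + 2 ^ 11)))))
    (Upto.trans (mid := 83968) (Upto.trans (mid := 79872) (Upto.trans (mid := 77824) ((Upto.of_pow lift13_c37 (Nat.le_refl _)) : Upto _ _ 75776 (75776 + 2 ^ 11))
    ((Upto.of_pow lift13_c38 (Nat.le_refl _)) : Upto _ _ 77824 (77824 + 2 ^ 11)))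
    (Upto.trans (mid := 81920) ((Upto.of_pow lift13_c39 (Nat.le_refl _)) : Upto _ _ 79872 (79872 + 2 ^ 11))
    ((Upto.of_pow lift13_c40 (Nat.le_refl _)) : Upto _ _ 81920 (81920 + 2 ^ 11))))
    (Upto.trans (mid := 88064) (Upto.trans (mid := 86016) ((Upto.of_pow lift13_c41 (Nat.le_refl _)) : Upto _ _ 83968 (83968 + 2 ^ 11))
    ((Upto.of_pow lift13_c42 (Nat.le_refl _)) : Upto _ _ 86016 (86016 + 2 ^ 11)))
    (Upto.trans (mid := 90112) ((Upto.of_pow lift13_c43 (Nat.le_refl _)) : Upto _ _ 88064 (88064 + 2 ^ 11))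
    ((Upto.of_pow lift13_c44 (Nat.le_refl _)) : Upto _ _ 90112 (90112 + 2 ^ 11))))))
    (Upto.trans (mid := 106496) (Upto.trans (mid := 98304) (Upto.trans (mid := 94208) ((Upto.of_pow lift13_c45 (Nat.le_refl _)) : Upto _ _ 92160 (92160 + 2 ^ 11))
    (Upto.trans (mid := 96256) ((Upto.of_pow lift13_c46 (Nat.le_refl _)) : Upto _ _ 94208 (94208 + 2 ^ 11))
    ((Upto.of_pow lift13_c47 (Nat.le_refl _)) : Upto _ _ 96256 (96256 + 2 ^ 11))))
    (Upto.trans (mid := 102400) (Upto.trans (mid := 100352) ((Upto.of_pow lift13_c48 (Nat.le_refl _)) : Upto _ _ 98304 (98304 + 2 ^ 11))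
    ((Upto.of_pow lift13_c49 (Nat.le_refl _)) : Upto _ _ 100352 (100352 + 2 ^ 11)))
    (Upto.trans (mid := 104448) ((Upto.of_pow lift13_c50 (Nat.le_refl _)) : Upto _ _ 102400 (102400 + 2 ^ 11))
    ((Upto.of_pow lift13_c51 (Nat.le_refl _)) : Upto _ _ 104448 (104448 + 2 ^ 11)))))
    (Upto.trans (mid := 114688) (Upto.trans (mid := 110592) (Upto.trans (mid := 108544) ((Upto.of_pow lift13_c52 (Nat.le_refl _)) : Upto _ _ 106496 (106496 + 2 ^ 11))
    ((Upto.of_pow lift13_c53 (Nat.le_refl _)) : Upto _ _ 108544 (108544 + 2 ^ 11)))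
    (Upto.trans (mid := 112640) ((Upto.of_pow lift13_c54 (Nat.le_refl _)) : Upto _ _ 110592 (110592 + 2 ^ 11))
    ((Upto.of_pow lift13_c55 (Nat.le_refl _)) : Upto _ _ 112640 (112640 + 2 ^ 11))))
    (Upto.trans (mid := 118784) (Upto.trans (mid := 116736) ((Upto.of_pow lift13_c56 (Nat.le_refl _)) : Upto _ _ 114688 (114688 + 2 ^ 11))
    ((Upto.of_pow lift13_c57 (Nat.le_refl _)) : Upto _ _ 116736 (116736 + 2 ^ 11)))
    (Upto.trans (mid := 120832) ((Upto.of_pow lift13_c58 (Nat.le_refl _)) : Upto _ _ 118784 (118784 + 2 ^ 11))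
    ((Upto.of_pow lift13_c59 (Nat.le_refl _)) : Upto _ _ 120832 (120832 + 2 ^ 11))))))))
    (by decide) (by decide)
theorem lift18_c0 : allPow 122760 (liftStep [lstep W6, lstep W6] 0) 11 0 = true := by decide +kernel
theorem lift18_c1 : allPow 122760 (liftStep [lstep W6, lstep W6] 0) 11 2048 = true := by decide +kernel
theorem lift18_c2 : allPow 122760 (liftStep [lstep W6, lstep W6] 0) 11 4096 = true := by decide +kernel
theorem lift18_c3 : allPow 122760 (liftStep [lstep W6, lstep W6] 0) 11 6144 = true := by decide +kernel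
theorem lift18_c4 : allPow 122760 (liftStep [lstep W6, lstep W6] 0) 11 8192 = true := by decide +kernel
theorem lift18_c5 : allPow 122760 (liftStep [lstep W6, lstep W6] 0) 11 10240 = true := by decide +kernel
theorem lift18_c6 : allPow 122760 (liftStep [lstep W6, lstep W6] 0) 11 12288 = true := by decide +kernel
theorem lift18_c7 : allPow 122760 (liftStep [lstep W6, lstep W6] 0) 11 14336 = true := by decide +kernel
theorem lift18_c8 : allPow 122760 (liftStep [lstep W6, lstep W6] 0) 11 16384 = true := by decide +kernel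
theorem lift18_c9 : allPow 122760 (liftStep [lstep W6, lstep W6] 0) 11 18432 = true := by decide +kernel
theorem lift18_c10 : allPow 122760 (liftStep [lstep W6, lstep W6] 0) 11 20480 = true := by decide +kernel
theorem lift18_c11 : allPow 122760 (liftStep [lstep W6, lstep W6] 0) 11 22528 = true := by decide +kernel
theorem lift18_c12 : allPow 122760 (liftStep [lstep W6, lstep W6] 0) 11 24576 = true := by decide +kernel
theorem lift18_c13 : allPow 122760 (liftStep [lstep W6, lstep W6] 0) 11 26624 = true := by decide +kernel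
theorem lift18_c14 : allPow 122760 (liftStep [lstep W6, lstep W6] 0) 11 28672 = true := by decide +kernel
theorem lift18_c15 : allPow 122760 (liftStep [lstep W6, lstep W6] 0) 11 30720 = true := by decide +kernel
theorem lift18_c16 : allPow 122760 (liftStep [lstep W6, lstep W6] 0) 11 32768 = true := by decide +kernel
theorem lift18_c17 : allPow 122760 (liftStep [lstep W6, lstep W6] 0) 11 34816 = true := by decide +kernel
theorem lift18_c18 : allPow 122760 (liftStep [lstep W6, lstep W6] 0) 11 36864 = true := by decide +kernel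
theorem lift18_c19 : allPow 122760 (liftStep [lstep W6, lstep W6] 0) 11 38912 = true := by decide +kernel
theorem lift18_c20 : allPow 122760 (liftStep [lstep W6, lstep W6] 0) 11 40960 = true := by decide +kernel
theorem lift18_c21 : allPow 122760 (liftStep [lstep W6, lstep W6] 0) 11 43008 = true := by decide +kernel
theorem lift18_c22 : allPow 122760 (liftStep [lstep W6, lstep W6] 0) 11 45056 = true := by decide +kernel
theorem lift18_c23 : allPow 122760 (liftStep [lstep W6, lstep W6] 0) 11 47104 = true := by decide +kernel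
theorem lift18_c24 : allPow 122760 (liftStep [lstep W6, lstep W6] 0) 11 49152 = true := by decide +kernel
theorem lift18_c25 : allPow 122760 (liftStep [lstep W6, lstep W6] 0) 11 51200 = true := by decide +kernel
theorem lift18_c26 : allPow 122760 (liftStep [lstep W6, lstep W6] 0) 11 53248 = true := by decide +kernel
theorem lift18_c27 : allPow 122760 (liftStep [lstep W6, lstep W6] 0) 11 55296 = true := by decide +kernel
theorem lift18_c28 : allPow 122760 (liftStep [lstep W6, lstep W6] 0) 11 57344 = true := by decide +kernel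
theorem lift18_c29 : allPow 122760 (liftStep [lstep W6, lstep W6] 0) 11 59392 = true := by decide +kernel
theorem lift18_c30 : allPow 122760 (liftStep [lstep W6, lstep W6] 0) 11 61440 = true := by decide +kernel
theorem lift18_c31 : allPow 122760 (liftStep [lstep W6, lstep W6] 0) 11 63488 = true := by decide +kernel
theorem lift18_c32 : allPow 122760 (liftStep [lstep W6, lstep W6] 0) 11 65536 = true := by decide +kernel
theorem lift18_c33 : allPow 122760 (liftStep [lstep W6, lstep W6] 0) 11 67584 = true := by decide +kernel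
theorem lift18_c34 : allPow 122760 (liftStep [lstep W6, lstep W6] 0) 11 69632 = true := by decide +kernel
theorem lift18_c35 : allPow 122760 (liftStep [lstep W6, lstep W6] 0) 11 71680 = true := by decide +kernel
theorem lift18_c36 : allPow 122760 (liftStep [lstep W6, lstep W6] 0) 11 73728 = true := by decide +kernel
theorem lift18_c37 : allPow 122760 (liftStep [lstep W6, lstep W6] 0) 11 75776 = true := by decide +kernel
theorem lift18_c38 : allPow 122760 (liftStep [lstep W6, lstep W6] 0) 11 77824 = true := by decide +kernel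
theorem lift18_c39 : allPow 122760 (liftStep [lstep W6, lstep W6] 0) 11 79872 = true := by decide +kernel
theorem lift18_c40 : allPow 122760 (liftStep [lstep W6, lstep W6] 0) 11 81920 = true := by decide +kernel
theorem lift18_c41 : allPow 122760 (liftStep [lstep W6, lstep W6] 0) 11 83968 = true := by decide +kernel
theorem lift18_c42 : allPow 122760 (liftStep [lstep W6, lstep W6] 0) 11 86016 = true := by decide +kernel
theorem lift18_c43 : allPow 122760 (liftStep [lstep W6, lstep W6] 0) 11 88064 = true := by decide +kernel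
theorem lift18_c44 : allPow 122760 (liftStep [lstep W6, lstep W6] 0) 11 90112 = true := by decide +kernel
theorem lift18_c45 : allPow 122760 (liftStep [lstep W6, lstep W6] 0) 11 92160 = true := by decide +kernel
theorem lift18_c46 : allPow 122760 (liftStep [lstep W6, lstep W6] 0) 11 94208 = true := by decide +kernel
theorem lift18_c47 : allPow 122760 (liftStep [lstep W6, lstep W6] 0) 11 96256 = true := by decide +kernel
theorem lift18_c48 : allPow 122760 (liftStep [lstep W6, lstep W6] 0) 11 98304 = true := by decide +kernel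
theorem lift18_c49 : allPow 122760 (liftStep [lstep W6, lstep W6] 0) 11 100352 = true := by decide +kernel
theorem lift18_c50 : allPow 122760 (liftStep [lstep W6, lstep W6] 0) 11 102400 = true := by decide +kernel
theorem lift18_c51 : allPow 122760 (liftStep [lstep W6, lstep W6] 0) 11 104448 = true := by decide +kernel
theorem lift18_c52 : allPow 122760 (liftStep [lstep W6, lstep W6] 0) 11 106496 = true := by decide +kernel
theorem lift18_c53 : allPow 122760 (liftStep [lstep W6, lstep W6] 0) 11 108544 = true := by decide +kernel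
theorem lift18_c54 : allPow 122760 (liftStep [lstep W6, lstep W6] 0) 11 110592 = true := by decide +kernel
theorem lift18_c55 : allPow 122760 (liftStep [lstep W6, lstep W6] 0) 11 112640 = true := by decide +kernel
theorem lift18_c56 : allPow 122760 (liftStep [lstep W6, lstep W6] 0) 11 114688 = true := by decide +kernel
theorem lift18_c57 : allPow 122760 (liftStep [lstep W6, lstep W6] 0) 11 116736 = true := by decide +kernel
theorem lift18_c58 : allPow 122760 (liftStep [lstep W6, lstep W6] 0) 11 118784 = true := by decide +kernel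
theorem lift18_c59 : allPow 122760 (liftStep [lstep W6, lstep W6] 0) 11 120832 = true := by decide +kernel
theorem lift18 : allBelow 17 122760 (liftStep [lstep W6, lstep W6] 0) = true :=
  allBelow_of_upto (hi := 122880)
    (Upto.trans (mid := 61440) (Upto.trans (mid := 30720) (Upto.trans (mid := 14336) (Upto.trans (mid := 6144) (Upto.trans (mid := 2048) ((Upto.of_pow lift18_c0 (Nat.le_refl _)) : Upto _ _ 0 (0 + 2 ^ 11))
    (Upto.trans (mid := 4096) ((Upto.of_pow lift18_c1 (Nat.le_refl _)) : Upto _ _ 2048 (2048 + 2 ^ 11))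
    ((Upto.of_pow lift18_c2 (Nat.le_refl _)) : Upto _ _ 4096 (4096 + 2 ^ 11))))
    (Upto.trans (mid := 10240) (Upto.trans (mid := 8192) ((Upto.of_pow lift18_c3 (Nat.le_refl _)) : Upto _ _ 6144 (6144 + 2 ^ 11))
    ((Upto.of_pow lift18_c4 (Nat.le_refl _)) : Upto _ _ 8192 (8192 + 2 ^ 11)))
    (Upto.trans (mid := 12288) ((Upto.of_pow lift18_c5 (Nat.le_refl _)) : Upto _ _ 10240 (10240 + 2 ^ 11))
    ((Upto.of_pow lift18_c6 (Nat.le_refl _)) : Upto _ _ 12288 (12288 + 2 ^ 11)))))
    (Upto.trans (mid := 22528) (Upto.trans (mid := 18432) (Upto.trans (mid := 16384) ((Upto.of_pow lift18_c7 (Nat.le_refl _)) : Upto _ _ 14336 (14336 + 2 ^ 11))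
    ((Upto.of_pow lift18_c8 (Nat.le_refl _)) : Upto _ _ 16384 (16384 + 2 ^ 11)))
    (Upto.trans (mid := 20480) ((Upto.of_pow lift18_c9 (Nat.le_refl _)) : Upto _ _ 18432 (18432 + 2 ^ 11))
    ((Upto.of_pow lift18_c10 (Nat.le_refl _)) : Upto _ _ 20480 (20480 + 2 ^ 11))))
    (Upto.trans (mid := 26624) (Upto.trans (mid := 24576) ((Upto.of_pow lift18_c11 (Nat.le_refl _)) : Upto _ _ 22528 (22528 + 2 ^ 11))
    ((Upto.of_pow lift18_c12 (Nat.le_refl _)) : Upto _ _ 24576 (24576 + 2 ^ 11)))
    (Upto.trans (mid := 28672) ((Upto.of_pow lift18_c13 (Nat.le_refl _)) : Upto _ _ 26624 (26624 + 2 ^ 11))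
    ((Upto.of_pow lift18_c14 (Nat.le_refl _)) : Upto _ _ 28672 (28672 + 2 ^ 11))))))
    (Upto.trans (mid := 45056) (Upto.trans (mid := 36864) (Upto.trans (mid := 32768) ((Upto.of_pow lift18_c15 (Nat.le_refl _)) : Upto _ _ 30720 (30720 + 2 ^ 11))
    (Upto.trans (mid := 34816) ((Upto.of_pow lift18_c16 (Nat.le_refl _)) : Upto _ _ 32768 (32768 + 2 ^ 11))
    ((Upto.of_pow lift18_c17 (Nat.le_refl _)) : Upto _ _ 34816 (34816 + 2 ^ 11))))
    (Upto.trans (mid := 40960) (Upto.trans (mid := 38912) ((Upto.of_pow lift18_c18 (Nat.le_refl _)) : Upto _ _ 36864 (36864 + 2 ^ 11))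
    ((Upto.of_pow lift18_c19 (Nat.le_refl _)) : Upto _ _ 38912 (38912 + 2 ^ 11)))
    (Upto.trans (mid := 43008) ((Upto.of_pow lift18_c20 (Nat.le_refl _)) : Upto _ _ 40960 (40960 + 2 ^ 11))
    ((Upto.of_pow lift18_c21 (Nat.le_refl _)) : Upto _ _ 43008 (43008 + 2 ^ 11)))))
    (Upto.trans (mid := 53248) (Upto.trans (mid := 49152) (Upto.trans (mid := 47104) ((Upto.of_pow lift18_c22 (Nat.le_refl _)) : Upto _ _ 45056 (45056 + 2 ^ 11))
    ((Upto.of_pow lift18_c23 (Nat.le_refl _)) : Upto _ _ 47104 (47104 + 2 ^ 11)))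
    (Upto.trans (mid := 51200) ((Upto.of_pow lift18_c24 (Nat.le_refl _)) : Upto _ _ 49152 (49152 + 2 ^ 11))
    ((Upto.of_pow lift18_c25 (Nat.le_refl _)) : Upto _ _ 51200 (51200 + 2 ^ 11))))
    (Upto.trans (mid := 57344) (Upto.trans (mid := 55296) ((Upto.of_pow lift18_c26 (Nat.le_refl _)) : Upto _ _ 53248 (53248 + 2 ^ 11))
    ((Upto.of_pow lift18_c27 (Nat.le_refl _)) : Upto _ _ 55296 (55296 + 2 ^ 11)))
    (Upto.trans (mid := 59392) ((Upto.of_pow lift18_c28 (Nat.le_refl _)) : Upto _ _ 57344 (57344 + 2 ^ 11))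
    ((Upto.of_pow lift18_c29 (Nat.le_refl _)) : Upto _ _ 59392 (59392 + 2 ^ 11)))))))
    (Upto.trans (mid := 92160) (Upto.trans (mid := 75776) (Upto.trans (mid := 67584) (Upto.trans (mid := 63488) ((Upto.of_pow lift18_c30 (Nat.le_refl _)) : Upto _ _ 61440 (61440 + 2 ^ 11))
    (Upto.trans (mid := 65536) ((Upto.of_pow lift18_c31 (Nat.le_refl _)) : Upto _ _ 63488 (63488 + 2 ^ 11))
    ((Upto.of_pow lift18_c32 (Nat.le_refl _)) : Upto _ _ 65536 (65536 + 2 ^ 11))))
    (Upto.trans (mid := 71680) (Upto.trans (mid := 69632) ((Upto.of_pow lift18_c33 (Nat.le_refl _)) : Upto _ _ 67584 (67584 + 2 ^ 11))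
    ((Upto.of_pow lift18_c34 (Nat.le_refl _)) : Upto _ _ 69632 (69632 + 2 ^ 11)))
    (Upto.trans (mid := 73728) ((Upto.of_pow lift18_c35 (Nat.le_refl _)) : Upto _ _ 71680 (71680 + 2 ^ 11))
    ((Upto.of_pow lift18_c36 (Nat.le_refl _)) : Upto _ _ 73728 (73728 + 2 ^ 11)))))
    (Upto.trans (mid := 83968) (Upto.trans (mid := 79872) (Upto.trans (mid := 77824) ((Upto.of_pow lift18_c37 (Nat.le_refl _)) : Upto _ _ 75776 (75776 + 2 ^ 11))
    ((Upto.of_pow lift18_c38 (Nat.le_refl _)) : Upto _ _ 77824 (77824 + 2 ^ 11)))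
    (Upto.trans (mid := 81920) ((Upto.of_pow lift18_c39 (Nat.le_refl _)) : Upto _ _ 79872 (79872 + 2 ^ 11))
    ((Upto.of_pow lift18_c40 (Nat.le_refl _)) : Upto _ _ 81920 (81920 + 2 ^ 11))))
    (Upto.trans (mid := 88064) (Upto.trans (mid := 86016) ((Upto.of_pow lift18_c41 (Nat.le_refl _)) : Upto _ _ 83968 (83968 + 2 ^ 11))
    ((Upto.of_pow lift18_c42 (Nat.le_refl _)) : Upto _ _ 86016 (86016 + 2 ^ 11)))
    (Upto.trans (mid := 90112) ((Upto.of_pow lift18_c43 (Nat.le_refl _)) : Upto _ _ 88064 (88064 + 2 ^ 11))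
    ((Upto.of_pow lift18_c44 (Nat.le_refl _)) : Upto _ _ 90112 (90112 + 2 ^ 11))))))
    (Upto.trans (mid := 106496) (Upto.trans (mid := 98304) (Upto.trans (mid := 94208) ((Upto.of_pow lift18_c45 (Nat.le_refl _)) : Upto _ _ 92160 (92160 + 2 ^ 11))
    (Upto.trans (mid := 96256) ((Upto.of_pow lift18_c46 (Nat.le_refl _)) : Upto _ _ 94208 (94208 + 2 ^ 11))
    ((Upto.of_pow lift18_c47 (Nat.le_refl _)) : Upto _ _ 96256 (96256 + 2 ^ 11))))
    (Upto.trans (mid := 102400) (Upto.trans (mid := 100352) ((Upto.of_pow lift18_c48 (Nat.le_refl _)) : Upto _ _ 98304 (98304 + 2 ^ 11))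
    ((Upto.of_pow lift18_c49 (Nat.le_refl _)) : Upto _ _ 100352 (100352 + 2 ^ 11)))
    (Upto.trans (mid := 104448) ((Upto.of_pow lift18_c50 (Nat.le_refl _)) : Upto _ _ 102400 (102400 + 2 ^ 11))
    ((Upto.of_pow lift18_c51 (Nat.le_refl _)) : Upto _ _ 104448 (104448 + 2 ^ 11)))))
    (Upto.trans (mid := 114688) (Upto.trans (mid := 110592) (Upto.trans (mid := 108544) ((Upto.of_pow lift18_c52 (Nat.le_refl _)) : Upto _ _ 106496 (106496 + 2 ^ 11))
    ((Upto.of_pow lift18_c53 (Nat.le_refl _)) : Upto _ _ 108544 (108544 + 2 ^ 11)))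
    (Upto.trans (mid := 112640) ((Upto.of_pow lift18_c54 (Nat.le_refl _)) : Upto _ _ 110592 (110592 + 2 ^ 11))
    ((Upto.of_pow lift18_c55 (Nat.le_refl _)) : Upto _ _ 112640 (112640 + 2 ^ 11))))
    (Upto.trans (mid := 118784) (Upto.trans (mid := 116736) ((Upto.of_pow lift18_c56 (Nat.le_refl _)) : Upto _ _ 114688 (114688 + 2 ^ 11))
    ((Upto.of_pow lift18_c57 (Nat.le_refl _)) : Upto _ _ 116736 (116736 + 2 ^ 11)))
    (Upto.trans (mid := 120832) ((Upto.of_pow lift18_c58 (Nat.le_refl _)) : Upto _ _ 118784 (118784 + 2 ^ 11))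
    ((Upto.of_pow lift18_c59 (Nat.le_refl _)) : Upto _ _ 120832 (120832 + 2 ^ 11))))))))
    (by decide) (by decide)
theorem pair7_c0 : allPow 122760 (pairStep W7 W7 122760) 11 0 = true := by decide +kernel
theorem pair7_c1 : allPow 122760 (pairStep W7 W7 122760) 11 2048 = true := by decide +kernel
theorem pair7_c2 : allPow 122760 (pairStep W7 W7 122760) 11 4096 = true := by decide +kernel
theorem pair7_c3 : allPow 122760 (pairStep W7 W7 122760) 11 6144 = true := by decide +kernel
theorem pair7_c4 : allPow 122760 (pairStep W7 W7 122760) 11 8192 = true := by decide +kernel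
theorem pair7_c5 : allPow 122760 (pairStep W7 W7 122760) 11 10240 = true := by decide +kernel
theorem pair7_c6 : allPow 122760 (pairStep W7 W7 122760) 11 12288 = true := by decide +kernel
theorem pair7_c7 : allPow 122760 (pairStep W7 W7 122760) 11 14336 = true := by decide +kernel
theorem pair7_c8 : allPow 122760 (pairStep W7 W7 122760) 11 16384 = true := by decide +kernel
theorem pair7_c9 : allPow 122760 (pairStep W7 W7 122760) 11 18432 = true := by decide +kernel
theorem pair7_c10 : allPow 122760 (pairStep W7 W7 122760) 11 20480 = true := by decide +kernel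
theorem pair7_c11 : allPow 122760 (pairStep W7 W7 122760) 11 22528 = true := by decide +kernel
theorem pair7_c12 : allPow 122760 (pairStep W7 W7 122760) 11 24576 = true := by decide +kernel
theorem pair7_c13 : allPow 122760 (pairStep W7 W7 122760) 11 26624 = true := by decide +kernel
theorem pair7_c14 : allPow 122760 (pairStep W7 W7 122760) 11 28672 = true := by decide +kernel
theorem pair7_c15 : allPow 122760 (pairStep W7 W7 122760) 11 30720 = true := by decide +kernel
theorem pair7_c16 : allPow 122760 (pairStep W7 W7 122760) 11 32768 = true := by decide +kernel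
theorem pair7_c17 : allPow 122760 (pairStep W7 W7 122760) 11 34816 = true := by decide +kernel
theorem pair7_c18 : allPow 122760 (pairStep W7 W7 122760) 11 36864 = true := by decide +kernel
theorem pair7_c19 : allPow 122760 (pairStep W7 W7 122760) 11 38912 = true := by decide +kernel
theorem pair7_c20 : allPow 122760 (pairStep W7 W7 122760) 11 40960 = true := by decide +kernel
theorem pair7_c21 : allPow 122760 (pairStep W7 W7 122760) 11 43008 = true := by decide +kernel
theorem pair7_c22 : allPow 122760 (pairStep W7 W7 122760) 11 45056 = true := by decide +kernel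
theorem pair7_c23 : allPow 122760 (pairStep W7 W7 122760) 11 47104 = true := by decide +kernel
theorem pair7_c24 : allPow 122760 (pairStep W7 W7 122760) 11 49152 = true := by decide +kernel
theorem pair7_c25 : allPow 122760 (pairStep W7 W7 122760) 11 51200 = true := by decide +kernel
theorem pair7_c26 : allPow 122760 (pairStep W7 W7 122760) 11 53248 = true := by decide +kernel
theorem pair7_c27 : allPow 122760 (pairStep W7 W7 122760) 11 55296 = true := by decide +kernel
theorem pair7_c28 : allPow 122760 (pairStep W7 W7 122760) 11 57344 = true := by decide +kernel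
theorem pair7_c29 : allPow 122760 (pairStep W7 W7 122760) 11 59392 = true := by decide +kernel
theorem pair7_c30 : allPow 122760 (pairStep W7 W7 122760) 11 61440 = true := by decide +kernel
theorem pair7_c31 : allPow 122760 (pairStep W7 W7 122760) 11 63488 = true := by decide +kernel
theorem pair7_c32 : allPow 122760 (pairStep W7 W7 122760) 11 65536 = true := by decide +kernel
theorem pair7_c33 : allPow 122760 (pairStep W7 W7 122760) 11 67584 = true := by decide +kernel
theorem pair7_c34 : allPow 122760 (pairStep W7 W7 122760) 11 69632 = true := by decide +kernel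
theorem pair7_c35 : allPow 122760 (pairStep W7 W7 122760) 11 71680 = true := by decide +kernel
theorem pair7_c36 : allPow 122760 (pairStep W7 W7 122760) 11 73728 = true := by decide +kernel
theorem pair7_c37 : allPow 122760 (pairStep W7 W7 122760) 11 75776 = true := by decide +kernel
theorem pair7_c38 : allPow 122760 (pairStep W7 W7 122760) 11 77824 = true := by decide +kernel
theorem pair7_c39 : allPow 122760 (pairStep W7 W7 122760) 11 79872 = true := by decide +kernel
theorem pair7_c40 : allPow 122760 (pairStep W7 W7 122760) 11 81920 = true := by decide +kernel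
theorem pair7_c41 : allPow 122760 (pairStep W7 W7 122760) 11 83968 = true := by decide +kernel
theorem pair7_c42 : allPow 122760 (pairStep W7 W7 122760) 11 86016 = true := by decide +kernel
theorem pair7_c43 : allPow 122760 (pairStep W7 W7 122760) 11 88064 = true := by decide +kernel
theorem pair7_c44 : allPow 122760 (pairStep W7 W7 122760) 11 90112 = true := by decide +kernel
theorem pair7_c45 : allPow 122760 (pairStep W7 W7 122760) 11 92160 = true := by decide +kernel
theorem pair7_c46 : allPow 122760 (pairStep W7 W7 122760) 11 94208 = true := by decide +kernel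
theorem pair7_c47 : allPow 122760 (pairStep W7 W7 122760) 11 96256 = true := by decide +kernel
theorem pair7_c48 : allPow 122760 (pairStep W7 W7 122760) 11 98304 = true := by decide +kernel
theorem pair7_c49 : allPow 122760 (pairStep W7 W7 122760) 11 100352 = true := by decide +kernel
theorem pair7_c50 : allPow 122760 (pairStep W7 W7 122760) 11 102400 = true := by decide +kernel
theorem pair7_c51 : allPow 122760 (pairStep W7 W7 122760) 11 104448 = true := by decide +kernel
theorem pair7_c52 : allPow 122760 (pairStep W7 W7 122760) 11 106496 = true := by decide +kernel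
theorem pair7_c53 : allPow 122760 (pairStep W7 W7 122760) 11 108544 = true := by decide +kernel
theorem pair7_c54 : allPow 122760 (pairStep W7 W7 122760) 11 110592 = true := by decide +kernel
theorem pair7_c55 : allPow 122760 (pairStep W7 W7 122760) 11 112640 = true := by decide +kernel
theorem pair7_c56 : allPow 122760 (pairStep W7 W7 122760) 11 114688 = true := by decide +kernel
theorem pair7_c57 : allPow 122760 (pairStep W7 W7 122760) 11 116736 = true := by decide +kernel
theorem pair7_c58 : allPow 122760 (pairStep W7 W7 122760) 11 118784 = true := by decide +kernel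
theorem pair7_c59 : allPow 122760 (pairStep W7 W7 122760) 11 120832 = true := by decide +kernel
theorem pair7 : allBelow 17 122760 (pairStep W7 W7 122760) = true :=
  allBelow_of_upto (hi := 122880)
    (Upto.trans (mid := 61440) (Upto.trans (mid := 30720) (Upto.trans (mid := 14336) (Upto.trans (mid := 6144) (Upto.trans (mid := 2048) ((Upto.of_pow pair7_c0 (Nat.le_refl _)) : Upto _ _ 0 (0 + 2 ^ 11))
    (Upto.trans (mid := 4096) ((Upto.of_pow pair7_c1 (Nat.le_refl _)) : Upto _ _ 2048 (2048 + 2 ^ 11))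
    ((Upto.of_pow pair7_c2 (Nat.le_refl _)) : Upto _ _ 4096 (4096 + 2 ^ 11))))
    (Upto.trans (mid := 10240) (Upto.trans (mid := 8192) ((Upto.of_pow pair7_c3 (Nat.le_refl _)) : Upto _ _ 6144 (6144 + 2 ^ 11))
    ((Upto.of_pow pair7_c4 (Nat.le_refl _)) : Upto _ _ 8192 (8192 + 2 ^ 11)))
    (Upto.trans (mid := 12288) ((Upto.of_pow pair7_c5 (Nat.le_refl _)) : Upto _ _ 10240 (10240 + 2 ^ 11))
    ((Upto.of_pow pair7_c6 (Nat.le_refl _)) : Upto _ _ 12288 (12288 + 2 ^ 11)))))
    (Upto.trans (mid := 22528) (Upto.trans (mid := 18432) (Upto.trans (mid := 16384) ((Upto.of_pow pair7_c7 (Nat.le_refl _)) : Upto _ _ 14336 (14336 + 2 ^ 11))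
    ((Upto.of_pow pair7_c8 (Nat.le_refl _)) : Upto _ _ 16384 (16384 + 2 ^ 11)))
    (Upto.trans (mid := 20480) ((Upto.of_pow pair7_c9 (Nat.le_refl _)) : Upto _ _ 18432 (18432 + 2 ^ 11))
    ((Upto.of_pow pair7_c10 (Nat.le_refl _)) : Upto _ _ 20480 (20480 + 2 ^ 11))))
    (Upto.trans (mid := 26624) (Upto.trans (mid := 24576) ((Upto.of_pow pair7_c11 (Nat.le_refl _)) : Upto _ _ 22528 (22528 + 2 ^ 11))
    ((Upto.of_pow pair7_c12 (Nat.le_refl _)) : Upto _ _ 24576 (24576 + 2 ^ 11)))
    (Upto.trans (mid := 28672) ((Upto.of_pow pair7_c13 (Nat.le_refl _)) : Upto _ _ 26624 (26624 + 2 ^ 11))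
    ((Upto.of_pow pair7_c14 (Nat.le_refl _)) : Upto _ _ 28672 (28672 + 2 ^ 11))))))
    (Upto.trans (mid := 45056) (Upto.trans (mid := 36864) (Upto.trans (mid := 32768) ((Upto.of_pow pair7_c15 (Nat.le_refl _)) : Upto _ _ 30720 (30720 + 2 ^ 11))
    (Upto.trans (mid := 34816) ((Upto.of_pow pair7_c16 (Nat.le_refl _)) : Upto _ _ 32768 (32768 + 2 ^ 11))
    ((Upto.of_pow pair7_c17 (Nat.le_refl _)) : Upto _ _ 34816 (34816 + 2 ^ 11))))
    (Upto.trans (mid := 40960) (Upto.trans (mid := 38912) ((Upto.of_pow pair7_c18 (Nat.le_refl _)) : Upto _ _ 36864 (36864 + 2 ^ 11))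
    ((Upto.of_pow pair7_c19 (Nat.le_refl _)) : Upto _ _ 38912 (38912 + 2 ^ 11)))
    (Upto.trans (mid := 43008) ((Upto.of_pow pair7_c20 (Nat.le_refl _)) : Upto _ _ 40960 (40960 + 2 ^ 11))
    ((Upto.of_pow pair7_c21 (Nat.le_refl _)) : Upto _ _ 43008 (43008 + 2 ^ 11)))))
    (Upto.trans (mid := 53248) (Upto.trans (mid := 49152) (Upto.trans (mid := 47104) ((Upto.of_pow pair7_c22 (Nat.le_refl _)) : Upto _ _ 45056 (45056 + 2 ^ 11))
    ((Upto.of_pow pair7_c23 (Nat.le_refl _)) : Upto _ _ 47104 (47104 + 2 ^ 11)))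
    (Upto.trans (mid := 51200) ((Upto.of_pow pair7_c24 (Nat.le_refl _)) : Upto _ _ 49152 (49152 + 2 ^ 11))
    ((Upto.of_pow pair7_c25 (Nat.le_refl _)) : Upto _ _ 51200 (51200 + 2 ^ 11))))
    (Upto.trans (mid := 57344) (Upto.trans (mid := 55296) ((Upto.of_pow pair7_c26 (Nat.le_refl _)) : Upto _ _ 53248 (53248 + 2 ^ 11))
    ((Upto.of_pow pair7_c27 (Nat.le_refl _)) : Upto _ _ 55296 (55296 + 2 ^ 11)))
    (Upto.trans (mid := 59392) ((Upto.of_pow pair7_c28 (Nat.le_refl _)) : Upto _ _ 57344 (57344 + 2 ^ 11))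
    ((Upto.of_pow pair7_c29 (Nat.le_refl _)) : Upto _ _ 59392 (59392 + 2 ^ 11)))))))
    (Upto.trans (mid := 92160) (Upto.trans (mid := 75776) (Upto.trans (mid := 67584) (Upto.trans (mid := 63488) ((Upto.of_pow pair7_c30 (Nat.le_refl _)) : Upto _ _ 61440 (61440 + 2 ^ 11))
    (Upto.trans (mid := 65536) ((Upto.of_pow pair7_c31 (Nat.le_refl _)) : Upto _ _ 63488 (63488 + 2 ^ 11))
    ((Upto.of_pow pair7_c32 (Nat.le_refl _)) : Upto _ _ 65536 (65536 + 2 ^ 11))))
    (Upto.trans (mid := 71680) (Upto.trans (mid := 69632) ((Upto.of_pow pair7_c33 (Nat.le_refl _)) : Upto _ _ 67584 (67584 + 2 ^ 11))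
    ((Upto.of_pow pair7_c34 (Nat.le_refl _)) : Upto _ _ 69632 (69632 + 2 ^ 11)))
    (Upto.trans (mid := 73728) ((Upto.of_pow pair7_c35 (Nat.le_refl _)) : Upto _ _ 71680 (71680 + 2 ^ 11))
    ((Upto.of_pow pair7_c36 (Nat.le_refl _)) : Upto _ _ 73728 (73728 + 2 ^ 11)))))
    (Upto.trans (mid := 83968) (Upto.trans (mid := 79872) (Upto.trans (mid := 77824) ((Upto.of_pow pair7_c37 (Nat.le_refl _)) : Upto _ _ 75776 (75776 + 2 ^ 11))
    ((Upto.of_pow pair7_c38 (Nat.le_refl _)) : Upto _ _ 77824 (77824 + 2 ^ 11)))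
    (Upto.trans (mid := 81920) ((Upto.of_pow pair7_c39 (Nat.le_refl _)) : Upto _ _ 79872 (79872 + 2 ^ 11))
    ((Upto.of_pow pair7_c40 (Nat.le_refl _)) : Upto _ _ 81920 (81920 + 2 ^ 11))))
    (Upto.trans (mid := 88064) (Upto.trans (mid := 86016) ((Upto.of_pow pair7_c41 (Nat.le_refl _)) : Upto _ _ 83968 (83968 + 2 ^ 11))
    ((Upto.of_pow pair7_c42 (Nat.le_refl _)) : Upto _ _ 86016 (86016 + 2 ^ 11)))
    (Upto.trans (mid := 90112) ((Upto.of_pow pair7_c43 (Nat.le_refl _)) : Upto _ _ 88064 (88064 + 2 ^ 11))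
    ((Upto.of_pow pair7_c44 (Nat.le_refl _)) : Upto _ _ 90112 (90112 + 2 ^ 11))))))
    (Upto.trans (mid := 106496) (Upto.trans (mid := 98304) (Upto.trans (mid := 94208) ((Upto.of_pow pair7_c45 (Nat.le_refl _)) : Upto _ _ 92160 (92160 + 2 ^ 11))
    (Upto.trans (mid := 96256) ((Upto.of_pow pair7_c46 (Nat.le_refl _)) : Upto _ _ 94208 (94208 + 2 ^ 11))
    ((Upto.of_pow pair7_c47 (Nat.le_refl _)) : Upto _ _ 96256 (96256 + 2 ^ 11))))
    (Upto.trans (mid := 102400) (Upto.trans (mid := 100352) ((Upto.of_pow pair7_c48 (Nat.le_refl _)) : Upto _ _ 98304 (98304 + 2 ^ 11))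
    ((Upto.of_pow pair7_c49 (Nat.le_refl _)) : Upto _ _ 100352 (100352 + 2 ^ 11)))
    (Upto.trans (mid := 104448) ((Upto.of_pow pair7_c50 (Nat.le_refl _)) : Upto _ _ 102400 (102400 + 2 ^ 11))
    ((Upto.of_pow pair7_c51 (Nat.le_refl _)) : Upto _ _ 104448 (104448 + 2 ^ 11)))))
    (Upto.trans (mid := 114688) (Upto.trans (mid := 110592) (Upto.trans (mid := 108544) ((Upto.of_pow pair7_c52 (Nat.le_refl _)) : Upto _ _ 106496 (106496 + 2 ^ 11))
    ((Upto.of_pow pair7_c53 (Nat.le_refl _)) : Upto _ _ 108544 (108544 + 2 ^ 11)))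
    (Upto.trans (mid := 112640) ((Upto.of_pow pair7_c54 (Nat.le_refl _)) : Upto _ _ 110592 (110592 + 2 ^ 11))
    ((Upto.of_pow pair7_c55 (Nat.le_refl _)) : Upto _ _ 112640 (112640 + 2 ^ 11))))
    (Upto.trans (mid := 118784) (Upto.trans (mid := 116736) ((Upto.of_pow pair7_c56 (Nat.le_refl _)) : Upto _ _ 114688 (114688 + 2 ^ 11))
    ((Upto.of_pow pair7_c57 (Nat.le_refl _)) : Upto _ _ 116736 (116736 + 2 ^ 11)))
    (Upto.trans (mid := 120832) ((Upto.of_pow pair7_c58 (Nat.le_refl _)) : Upto _ _ 118784 (118784 + 2 ^ 11))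
    ((Upto.of_pow pair7_c59 (Nat.le_refl _)) : Upto _ _ 120832 (120832 + 2 ^ 11))))))))
    (by decide) (by decide)

end CfsgLib.ONMult
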