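import Cfsg.Agent.Lib.ONMult.CoverData

/-! Generated: checks for the triple cover. -/

set_option autoImplicit false
set_option maxRecDepth 20000
set_option linter.all false
set_option Elab.async false

namespace CfsgLib.ONMult

open CfsgLib.SporRecognition.CosetCert

theorem lift22_c0 : allPow 122760 (liftStep [lstep W4, lstep W5, lstep W4, lstep W5, lstep W4, lstep W5, lstep W4, lstep W5, lstep W7, lstep W2] 0) 11 0 = true := by decide +kernel
theorem lift22_c1 : allPow 122760 (liftStep [lstep W4, lstep W5, lstep W4, lstep W5, lstep W4, lstep W5, lstep W4, lstep W5, lstep W7, lstep W2] 0) 11 2048 = true := by decide +kernel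
theorem lift22_c2 : allPow 122760 (liftStep [lstep W4, lstep W5, lstep W4, lstep W5, lstep W4, lstep W5, lstep W4, lstep W5, lstep W7, lstep W2] 0) 11 4096 = true := by decide +kernel
theorem lift22_c3 : allPow 122760 (liftStep [lstep W4, lstep W5, lstep W4, lstep W5, lstep W4, lstep W5, lstep W4, lstep W5, lstep W7, lstep W2] 0) 11 6144 = true := by decide +kernel
theorem lift22_c4 : allPow 122760 (liftStep [lstep W4, lstep W5, lstep W4, lstep W5, lstep W4, lstep W5, lstep W4, lstep W5, lstep W7, lstep W2] 0) 11 8192 = true := by decide +kernel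
theorem lift22_c5 : allPow 122760 (liftStep [lstep W4, lstep W5, lstep W4, lstep W5, lstep W4, lstep W5, lstep W4, lstep W5, lstep W7, lstep W2] 0) 11 10240 = true := by decide +kernel
theorem lift22_c6 : allPow 122760 (liftStep [lstep W4, lstep W5, lstep W4, lstep W5, lstep W4, lstep W5, lstep W4, lstep W5, lstep W7, lstep W2] 0) 11 12288 = true := by decide +kernel
theorem lift22_c7 : allPow 122760 (liftStep [lstep W4, lstep W5, lstep W4, lstep W5, lstep W4, lstep W5, lstep W4, lstep W5, lstep W7, lstep W2] 0) 11 14336 = true := by decide +kernel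
theorem lift22_c8 : allPow 122760 (liftStep [lstep W4, lstep W5, lstep W4, lstep W5, lstep W4, lstep W5, lstep W4, lstep W5, lstep W7, lstep W2] 0) 11 16384 = true := by decide +kernel
theorem lift22_c9 : allPow 122760 (liftStep [lstep W4, lstep W5, lstep W4, lstep W5, lstep W4, lstep W5, lstep W4, lstep W5, lstep W7, lstep W2] 0) 11 18432 = true := by decide +kernel
theorem lift22_c10 : allPow 122760 (liftStep [lstep W4, lstep W5, lstep W4, lstep W5, lstep W4, lstep W5, lstep W4, lstep W5, lstep W7, lstep W2] 0) 11 20480 = true := by decide +kernel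
theorem lift22_c11 : allPow 122760 (liftStep [lstep W4, lstep W5, lstep W4, lstep W5, lstep W4, lstep W5, lstep W4, lstep W5, lstep W7, lstep W2] 0) 11 22528 = true := by decide +kernel
theorem lift22_c12 : allPow 122760 (liftStep [lstep W4, lstep W5, lstep W4, lstep W5, lstep W4, lstep W5, lstep W4, lstep W5, lstep W7, lstep W2] 0) 11 24576 = true := by decide +kernel
theorem lift22_c13 : allPow 122760 (liftStep [lstep W4, lstep W5, lstep W4, lstep W5, lstep W4, lstep W5, lstep W4, lstep W5, lstep W7, lstep W2] 0) 11 26624 = true := by decide +kernel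
theorem lift22_c14 : allPow 122760 (liftStep [lstep W4, lstep W5, lstep W4, lstep W5, lstep W4, lstep W5, lstep W4, lstep W5, lstep W7, lstep W2] 0) 11 28672 = true := by decide +kernel
theorem lift22_c15 : allPow 122760 (liftStep [lstep W4, lstep W5, lstep W4, lstep W5, lstep W4, lstep W5, lstep W4, lstep W5, lstep W7, lstep W2] 0) 11 30720 = true := by decide +kernel
theorem lift22_c16 : allPow 122760 (liftStep [lstep W4, lstep W5, lstep W4, lstep W5, lstep W4, lstep W5, lstep W4, lstep W5, lstep W7, lstep W2] 0) 11 32768 = true := by decide +kernel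
theorem lift22_c17 : allPow 122760 (liftStep [lstep W4, lstep W5, lstep W4, lstep W5, lstep W4, lstep W5, lstep W4, lstep W5, lstep W7, lstep W2] 0) 11 34816 = true := by decide +kernel
theorem lift22_c18 : allPow 122760 (liftStep [lstep W4, lstep W5, lstep W4, lstep W5, lstep W4, lstep W5, lstep W4, lstep W5, lstep W7, lstep W2] 0) 11 36864 = true := by decide +kernel
theorem lift22_c19 : allPow 122760 (liftStep [lstep W4, lstep W5, lstep W4, lstep W5, lstep W4, lstep W5, lstep W4, lstep W5, lstep W7, lstep W2] 0) 11 38912 = true := by decide +kernel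
theorem lift22_c20 : allPow 122760 (liftStep [lstep W4, lstep W5, lstep W4, lstep W5, lstep W4, lstep W5, lstep W4, lstep W5, lstep W7, lstep W2] 0) 11 40960 = true := by decide +kernel
theorem lift22_c21 : allPow 122760 (liftStep [lstep W4, lstep W5, lstep W4, lstep W5, lstep W4, lstep W5, lstep W4, lstep W5, lstep W7, lstep W2] 0) 11 43008 = true := by decide +kernel
theorem lift22_c22 : allPow 122760 (liftStep [lstep W4, lstep W5, lstep W4, lstep W5, lstep W4, lstep W5, lstep W4, lstep W5, lstep W7, lstep W2] 0) 11 45056 = true := by decide +kernel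
theorem lift22_c23 : allPow 122760 (liftStep [lstep W4, lstep W5, lstep W4, lstep W5, lstep W4, lstep W5, lstep W4, lstep W5, lstep W7, lstep W2] 0) 11 47104 = true := by decide +kernel
theorem lift22_c24 : allPow 122760 (liftStep [lstep W4, lstep W5, lstep W4, lstep W5, lstep W4, lstep W5, lstep W4, lstep W5, lstep W7, lstep W2] 0) 11 49152 = true := by decide +kernel
theorem lift22_c25 : allPow 122760 (liftStep [lstep W4, lstep W5, lstep W4, lstep W5, lstep W4, lstep W5, lstep W4, lstep W5, lstep W7, lstep W2] 0) 11 51200 = true := by decide +kernel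
theorem lift22_c26 : allPow 122760 (liftStep [lstep W4, lstep W5, lstep W4, lstep W5, lstep W4, lstep W5, lstep W4, lstep W5, lstep W7, lstep W2] 0) 11 53248 = true := by decide +kernel
theorem lift22_c27 : allPow 122760 (liftStep [lstep W4, lstep W5, lstep W4, lstep W5, lstep W4, lstep W5, lstep W4, lstep W5, lstep W7, lstep W2] 0) 11 55296 = true := by decide +kernel
theorem lift22_c28 : allPow 122760 (liftStep [lstep W4, lstep W5, lstep W4, lstep W5, lstep W4, lstep W5, lstep W4, lstep W5, lstep W7, lstep W2] 0) 11 57344 = true := by decide +kernel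
theorem lift22_c29 : allPow 122760 (liftStep [lstep W4, lstep W5, lstep W4, lstep W5, lstep W4, lstep W5, lstep W4, lstep W5, lstep W7, lstep W2] 0) 11 59392 = true := by decide +kernel
theorem lift22_c30 : allPow 122760 (liftStep [lstep W4, lstep W5, lstep W4, lstep W5, lstep W4, lstep W5, lstep W4, lstep W5, lstep W7, lstep W2] 0) 11 61440 = true := by decide +kernel
theorem lift22_c31 : allPow 122760 (liftStep [lstep W4, lstep W5, lstep W4, lstep W5, lstep W4, lstep W5, lstep W4, lstep W5, lstep W7, lstep W2] 0) 11 63488 = true := by decide +kernel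
theorem lift22_c32 : allPow 122760 (liftStep [lstep W4, lstep W5, lstep W4, lstep W5, lstep W4, lstep W5, lstep W4, lstep W5, lstep W7, lstep W2] 0) 11 65536 = true := by decide +kernel
theorem lift22_c33 : allPow 122760 (liftStep [lstep W4, lstep W5, lstep W4, lstep W5, lstep W4, lstep W5, lstep W4, lstep W5, lstep W7, lstep W2] 0) 11 67584 = true := by decide +kernel
theorem lift22_c34 : allPow 122760 (liftStep [lstep W4, lstep W5, lstep W4, lstep W5, lstep W4, lstep W5, lstep W4, lstep W5, lstep W7, lstep W2] 0) 11 69632 = true := by decide +kernel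
theorem lift22_c35 : allPow 122760 (liftStep [lstep W4, lstep W5, lstep W4, lstep W5, lstep W4, lstep W5, lstep W4, lstep W5, lstep W7, lstep W2] 0) 11 71680 = true := by decide +kernel
theorem lift22_c36 : allPow 122760 (liftStep [lstep W4, lstep W5, lstep W4, lstep W5, lstep W4, lstep W5, lstep W4, lstep W5, lstep W7, lstep W2] 0) 11 73728 = true := by decide +kernel
theorem lift22_c37 : allPow 122760 (liftStep [lstep W4, lstep W5, lstep W4, lstep W5, lstep W4, lstep W5, lstep W4, lstep W5, lstep W7, lstep W2] 0) 11 75776 = true := by decide +kernel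
theorem lift22_c38 : allPow 122760 (liftStep [lstep W4, lstep W5, lstep W4, lstep W5, lstep W4, lstep W5, lstep W4, lstep W5, lstep W7, lstep W2] 0) 11 77824 = true := by decide +kernel
theorem lift22_c39 : allPow 122760 (liftStep [lstep W4, lstep W5, lstep W4, lstep W5, lstep W4, lstep W5, lstep W4, lstep W5, lstep W7, lstep W2] 0) 11 79872 = true := by decide +kernel
theorem lift22_c40 : allPow 122760 (liftStep [lstep W4, lstep W5, lstep W4, lstep W5, lstep W4, lstep W5, lstep W4, lstep W5, lstep W7, lstep W2] 0) 11 81920 = true := by decide +kernel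
theorem lift22_c41 : allPow 122760 (liftStep [lstep W4, lstep W5, lstep W4, lstep W5, lstep W4, lstep W5, lstep W4, lstep W5, lstep W7, lstep W2] 0) 11 83968 = true := by decide +kernel
theorem lift22_c42 : allPow 122760 (liftStep [lstep W4, lstep W5, lstep W4, lstep W5, lstep W4, lstep W5, lstep W4, lstep W5, lstep W7, lstep W2] 0) 11 86016 = true := by decide +kernel
theorem lift22_c43 : allPow 122760 (liftStep [lstep W4, lstep W5, lstep W4, lstep W5, lstep W4, lstep W5, lstep W4, lstep W5, lstep W7, lstep W2] 0) 11 88064 = true := by decide +kernel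
theorem lift22_c44 : allPow 122760 (liftStep [lstep W4, lstep W5, lstep W4, lstep W5, lstep W4, lstep W5, lstep W4, lstep W5, lstep W7, lstep W2] 0) 11 90112 = true := by decide +kernel
theorem lift22_c45 : allPow 122760 (liftStep [lstep W4, lstep W5, lstep W4, lstep W5, lstep W4, lstep W5, lstep W4, lstep W5, lstep W7, lstep W2] 0) 11 92160 = true := by decide +kernel
theorem lift22_c46 : allPow 122760 (liftStep [lstep W4, lstep W5, lstep W4, lstep W5, lstep W4, lstep W5, lstep W4, lstep W5, lstep W7, lstep W2] 0) 11 94208 = true := by decide +kernel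
theorem lift22_c47 : allPow 122760 (liftStep [lstep W4, lstep W5, lstep W4, lstep W5, lstep W4, lstep W5, lstep W4, lstep W5, lstep W7, lstep W2] 0) 11 96256 = true := by decide +kernel
theorem lift22_c48 : allPow 122760 (liftStep [lstep W4, lstep W5, lstep W4, lstep W5, lstep W4, lstep W5, lstep W4, lstep W5, lstep W7, lstep W2] 0) 11 98304 = true := by decide +kernel
theorem lift22_c49 : allPow 122760 (liftStep [lstep W4, lstep W5, lstep W4, lstep W5, lstep W4, lstep W5, lstep W4, lstep W5, lstep W7, lstep W2] 0) 11 100352 = true := by decide +kernel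
theorem lift22_c50 : allPow 122760 (liftStep [lstep W4, lstep W5, lstep W4, lstep W5, lstep W4, lstep W5, lstep W4, lstep W5, lstep W7, lstep W2] 0) 11 102400 = true := by decide +kernel
theorem lift22_c51 : allPow 122760 (liftStep [lstep W4, lstep W5, lstep W4, lstep W5, lstep W4, lstep W5, lstep W4, lstep W5, lstep W7, lstep W2] 0) 11 104448 = true := by decide +kernel
theorem lift22_c52 : allPow 122760 (liftStep [lstep W4, lstep W5, lstep W4, lstep W5, lstep W4, lstep W5, lstep W4, lstep W5, lstep W7, lstep W2] 0) 11 106496 = true := by decide +kernel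
theorem lift22_c53 : allPow 122760 (liftStep [lstep W4, lstep W5, lstep W4, lstep W5, lstep W4, lstep W5, lstep W4, lstep W5, lstep W7, lstep W2] 0) 11 108544 = true := by decide +kernel
theorem lift22_c54 : allPow 122760 (liftStep [lstep W4, lstep W5, lstep W4, lstep W5, lstep W4, lstep W5, lstep W4, lstep W5, lstep W7, lstep W2] 0) 11 110592 = true := by decide +kernel
theorem lift22_c55 : allPow 122760 (liftStep [lstep W4, lstep W5, lstep W4, lstep W5, lstep W4, lstep W5, lstep W4, lstep W5, lstep W7, lstep W2] 0) 11 112640 = true := by decide +kernel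
theorem lift22_c56 : allPow 122760 (liftStep [lstep W4, lstep W5, lstep W4, lstep W5, lstep W4, lstep W5, lstep W4, lstep W5, lstep W7, lstep W2] 0) 11 114688 = true := by decide +kernel
theorem lift22_c57 : allPow 122760 (liftStep [lstep W4, lstep W5, lstep W4, lstep W5, lstep W4, lstep W5, lstep W4, lstep W5, lstep W7, lstep W2] 0) 11 116736 = true := by decide +kernel
theorem lift22_c58 : allPow 122760 (liftStep [lstep W4, lstep W5, lstep W4, lstep W5, lstep W4, lstep W5, lstep W4, lstep W5, lstep W7, lstep W2] 0) 11 118784 = true := by decide +kernel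
theorem lift22_c59 : allPow 122760 (liftStep [lstep W4, lstep W5, lstep W4, lstep W5, lstep W4, lstep W5, lstep W4, lstep W5, lstep W7, lstep W2] 0) 11 120832 = true := by decide +kernel
theorem lift22 : allBelow 17 122760 (liftStep [lstep W4, lstep W5, lstep W4, lstep W5, lstep W4, lstep W5, lstep W4, lstep W5, lstep W7, lstep W2] 0) = true :=
  allBelow_of_upto (hi := 122880)
    (Upto.trans (mid := 61440) (Upto.trans (mid := 30720) (Upto.trans (mid := 14336) (Upto.trans (mid := 6144) (Upto.trans (mid := 2048) ((Upto.of_pow lift22_c0 (Nat.le_refl _)) : Upto _ _ 0 (0 + 2 ^ 11))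
    (Upto.trans (mid := 4096) ((Upto.of_pow lift22_c1 (Nat.le_refl _)) : Upto _ _ 2048 (2048 + 2 ^ 11))
    ((Upto.of_pow lift22_c2 (Nat.le_refl _)) : Upto _ _ 4096 (4096 + 2 ^ 11))))
    (Upto.trans (mid := 10240) (Upto.trans (mid := 8192) ((Upto.of_pow lift22_c3 (Nat.le_refl _)) : Upto _ _ 6144 (6144 + 2 ^ 11))
    ((Upto.of_pow lift22_c4 (Nat.le_refl _)) : Upto _ _ 8192 (8192 + 2 ^ 11)))
    (Upto.trans (mid := 12288) ((Upto.of_pow lift22_c5 (Nat.le_refl _)) : Upto _ _ 10240 (10240 + 2 ^ 11))
    ((Upto.of_pow lift22_c6 (Nat.le_refl _)) : Upto _ _ 12288 (12288 + 2 ^ 11)))))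
    (Upto.trans (mid := 22528) (Upto.trans (mid := 18432) (Upto.trans (mid := 16384) ((Upto.of_pow lift22_c7 (Nat.le_refl _)) : Upto _ _ 14336 (14336 + 2 ^ 11))
    ((Upto.of_pow lift22_c8 (Nat.le_refl _)) : Upto _ _ 16384 (16384 + 2 ^ 11)))
    (Upto.trans (mid := 20480) ((Upto.of_pow lift22_c9 (Nat.le_refl _)) : Upto _ _ 18432 (18432 + 2 ^ 11))
    ((Upto.of_pow lift22_c10 (Nat.le_refl _)) : Upto _ _ 20480 (20480 + 2 ^ 11))))
    (Upto.trans (mid := 26624) (Upto.trans (mid := 24576) ((Upto.of_pow lift22_c11 (Nat.le_refl _)) : Upto _ _ 22528 (22528 + 2 ^ 11))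
    ((Upto.of_pow lift22_c12 (Nat.le_refl _)) : Upto _ _ 24576 (24576 + 2 ^ 11)))
    (Upto.trans (mid := 28672) ((Upto.of_pow lift22_c13 (Nat.le_refl _)) : Upto _ _ 26624 (26624 + 2 ^ 11))
    ((Upto.of_pow lift22_c14 (Nat.le_refl _)) : Upto _ _ 28672 (28672 + 2 ^ 11))))))
    (Upto.trans (mid := 45056) (Upto.trans (mid := 36864) (Upto.trans (mid := 32768) ((Upto.of_pow lift22_c15 (Nat.le_refl _)) : Upto _ _ 30720 (30720 + 2 ^ 11))
    (Upto.trans (mid := 34816) ((Upto.of_pow lift22_c16 (Nat.le_refl _)) : Upto _ _ 32768 (32768 + 2 ^ 11))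
    ((Upto.of_pow lift22_c17 (Nat.le_refl _)) : Upto _ _ 34816 (34816 + 2 ^ 11))))
    (Upto.trans (mid := 40960) (Upto.trans (mid := 38912) ((Upto.of_pow lift22_c18 (Nat.le_refl _)) : Upto _ _ 36864 (36864 + 2 ^ 11))
    ((Upto.of_pow lift22_c19 (Nat.le_refl _)) : Upto _ _ 38912 (38912 + 2 ^ 11)))
    (Upto.trans (mid := 43008) ((Upto.of_pow lift22_c20 (Nat.le_refl _)) : Upto _ _ 40960 (40960 + 2 ^ 11))
    ((Upto.of_pow lift22_c21 (Nat.le_refl _)) : Upto _ _ 43008 (43008 + 2 ^ 11)))))
    (Upto.trans (mid := 53248) (Upto.trans (mid := 49152) (Upto.trans (mid := 47104) ((Upto.of_pow lift22_c22 (Nat.le_refl _)) : Upto _ _ 45056 (45056 + 2 ^ 11))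
    ((Upto.of_pow lift22_c23 (Nat.le_refl _)) : Upto _ _ 47104 (47104 + 2 ^ 11)))
    (Upto.trans (mid := 51200) ((Upto.of_pow lift22_c24 (Nat.le_refl _)) : Upto _ _ 49152 (49152 + 2 ^ 11))
    ((Upto.of_pow lift22_c25 (Nat.le_refl _)) : Upto _ _ 51200 (51200 + 2 ^ 11))))
    (Upto.trans (mid := 57344) (Upto.trans (mid := 55296) ((Upto.of_pow lift22_c26 (Nat.le_refl _)) : Upto _ _ 53248 (53248 + 2 ^ 11))
    ((Upto.of_pow lift22_c27 (Nat.le_refl _)) : Upto _ _ 55296 (55296 + 2 ^ 11)))
    (Upto.trans (mid := 59392) ((Upto.of_pow lift22_c28 (Nat.le_refl _)) : Upto _ _ 57344 (57344 + 2 ^ 11))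
    ((Upto.of_pow lift22_c29 (Nat.le_refl _)) : Upto _ _ 59392 (59392 + 2 ^ 11)))))))
    (Upto.trans (mid := 92160) (Upto.trans (mid := 75776) (Upto.trans (mid := 67584) (Upto.trans (mid := 63488) ((Upto.of_pow lift22_c30 (Nat.le_refl _)) : Upto _ _ 61440 (61440 + 2 ^ 11))
    (Upto.trans (mid := 65536) ((Upto.of_pow lift22_c31 (Nat.le_refl _)) : Upto _ _ 63488 (63488 + 2 ^ 11))
    ((Upto.of_pow lift22_c32 (Nat.le_refl _)) : Upto _ _ 65536 (65536 + 2 ^ 11))))
    (Upto.trans (mid := 71680) (Upto.trans (mid := 69632) ((Upto.of_pow lift22_c33 (Nat.le_refl _)) : Upto _ _ 67584 (67584 + 2 ^ 11))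
    ((Upto.of_pow lift22_c34 (Nat.le_refl _)) : Upto _ _ 69632 (69632 + 2 ^ 11)))
    (Upto.trans (mid := 73728) ((Upto.of_pow lift22_c35 (Nat.le_refl _)) : Upto _ _ 71680 (71680 + 2 ^ 11))
    ((Upto.of_pow lift22_c36 (Nat.le_refl _)) : Upto _ _ 73728 (73728 + 2 ^ 11)))))
    (Upto.trans (mid := 83968) (Upto.trans (mid := 79872) (Upto.trans (mid := 77824) ((Upto.of_pow lift22_c37 (Nat.le_refl _)) : Upto _ _ 75776 (75776 + 2 ^ 11))
    ((Upto.of_pow lift22_c38 (Nat.le_refl _)) : Upto _ _ 77824 (77824 + 2 ^ 11)))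
    (Upto.trans (mid := 81920) ((Upto.of_pow lift22_c39 (Nat.le_refl _)) : Upto _ _ 79872 (79872 + 2 ^ 11))
    ((Upto.of_pow lift22_c40 (Nat.le_refl _)) : Upto _ _ 81920 (81920 + 2 ^ 11))))
    (Upto.trans (mid := 88064) (Upto.trans (mid := 86016) ((Upto.of_pow lift22_c41 (Nat.le_refl _)) : Upto _ _ 83968 (83968 + 2 ^ 11))
    ((Upto.of_pow lift22_c42 (Nat.le_refl _)) : Upto _ _ 86016 (86016 + 2 ^ 11)))
    (Upto.trans (mid := 90112) ((Upto.of_pow lift22_c43 (Nat.le_refl _)) : Upto _ _ 88064 (88064 + 2 ^ 11))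
    ((Upto.of_pow lift22_c44 (Nat.le_refl _)) : Upto _ _ 90112 (90112 + 2 ^ 11))))))
    (Upto.trans (mid := 106496) (Upto.trans (mid := 98304) (Upto.trans (mid := 94208) ((Upto.of_pow lift22_c45 (Nat.le_refl _)) : Upto _ _ 92160 (92160 + 2 ^ 11))
    (Upto.trans (mid := 96256) ((Upto.of_pow lift22_c46 (Nat.le_refl _)) : Upto _ _ 94208 (94208 + 2 ^ 11))
    ((Upto.of_pow lift22_c47 (Nat.le_refl _)) : Upto _ _ 96256 (96256 + 2 ^ 11))))
    (Upto.trans (mid := 102400) (Upto.trans (mid := 100352) ((Upto.of_pow lift22_c48 (Nat.le_refl _)) : Upto _ _ 98304 (98304 + 2 ^ 11))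
    ((Upto.of_pow lift22_c49 (Nat.le_refl _)) : Upto _ _ 100352 (100352 + 2 ^ 11)))
    (Upto.trans (mid := 104448) ((Upto.of_pow lift22_c50 (Nat.le_refl _)) : Upto _ _ 102400 (102400 + 2 ^ 11))
    ((Upto.of_pow lift22_c51 (Nat.le_refl _)) : Upto _ _ 104448 (104448 + 2 ^ 11)))))
    (Upto.trans (mid := 114688) (Upto.trans (mid := 110592) (Upto.trans (mid := 108544) ((Upto.of_pow lift22_c52 (Nat.le_refl _)) : Upto _ _ 106496 (106496 + 2 ^ 11))
    ((Upto.of_pow lift22_c53 (Nat.le_refl _)) : Upto _ _ 108544 (108544 + 2 ^ 11)))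
    (Upto.trans (mid := 112640) ((Upto.of_pow lift22_c54 (Nat.le_refl _)) : Upto _ _ 110592 (110592 + 2 ^ 11))
    ((Upto.of_pow lift22_c55 (Nat.le_refl _)) : Upto _ _ 112640 (112640 + 2 ^ 11))))
    (Upto.trans (mid := 118784) (Upto.trans (mid := 116736) ((Upto.of_pow lift22_c56 (Nat.le_refl _)) : Upto _ _ 114688 (114688 + 2 ^ 11))
    ((Upto.of_pow lift22_c57 (Nat.le_refl _)) : Upto _ _ 116736 (116736 + 2 ^ 11)))
    (Upto.trans (mid := 120832) ((Upto.of_pow lift22_c58 (Nat.le_refl _)) : Upto _ _ 118784 (118784 + 2 ^ 11))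
    ((Upto.of_pow lift22_c59 (Nat.le_refl _)) : Upto _ _ 120832 (120832 + 2 ^ 11))))))))
    (by decide) (by decide)
theorem lift16_c0 : allPow 122760 (liftStep [lstep W6, lstep W5, lstep W6, lstep W5, lstep W6, lstep W5] 0) 11 0 = true := by decide +kernel
theorem lift16_c1 : allPow 122760 (liftStep [lstep W6, lstep W5, lstep W6, lstep W5, lstep W6, lstep W5] 0) 11 2048 = true := by decide +kernel
theorem lift16_c2 : allPow 122760 (liftStep [lstep W6, lstep W5, lstep W6, lstep W5, lstep W6, lstep W5] 0) 11 4096 = true := by decide +kernel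
theorem lift16_c3 : allPow 122760 (liftStep [lstep W6, lstep W5, lstep W6, lstep W5, lstep W6, lstep W5] 0) 11 6144 = true := by decide +kernel
theorem lift16_c4 : allPow 122760 (liftStep [lstep W6, lstep W5, lstep W6, lstep W5, lstep W6, lstep W5] 0) 11 8192 = true := by decide +kernel
theorem lift16_c5 : allPow 122760 (liftStep [lstep W6, lstep W5, lstep W6, lstep W5, lstep W6, lstep W5] 0) 11 10240 = true := by decide +kernel
theorem lift16_c6 : allPow 122760 (liftStep [lstep W6, lstep W5, lstep W6, lstep W5, lstep W6, lstep W5] 0) 11 12288 = true := by decide +kernel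
theorem lift16_c7 : allPow 122760 (liftStep [lstep W6, lstep W5, lstep W6, lstep W5, lstep W6, lstep W5] 0) 11 14336 = true := by decide +kernel
theorem lift16_c8 : allPow 122760 (liftStep [lstep W6, lstep W5, lstep W6, lstep W5, lstep W6, lstep W5] 0) 11 16384 = true := by decide +kernel
theorem lift16_c9 : allPow 122760 (liftStep [lstep W6, lstep W5, lstep W6, lstep W5, lstep W6, lstep W5] 0) 11 18432 = true := by decide +kernel
theorem lift16_c10 : allPow 122760 (liftStep [lstep W6, lstep W5, lstep W6, lstep W5, lstep W6, lstep W5] 0) 11 20480 = true := by decide +kernel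
theorem lift16_c11 : allPow 122760 (liftStep [lstep W6, lstep W5, lstep W6, lstep W5, lstep W6, lstep W5] 0) 11 22528 = true := by decide +kernel
theorem lift16_c12 : allPow 122760 (liftStep [lstep W6, lstep W5, lstep W6, lstep W5, lstep W6, lstep W5] 0) 11 24576 = true := by decide +kernel
theorem lift16_c13 : allPow 122760 (liftStep [lstep W6, lstep W5, lstep W6, lstep W5, lstep W6, lstep W5] 0) 11 26624 = true := by decide +kernel
theorem lift16_c14 : allPow 122760 (liftStep [lstep W6, lstep W5, lstep W6, lstep W5, lstep W6, lstep W5] 0) 11 28672 = true := by decide +kernel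
theorem lift16_c15 : allPow 122760 (liftStep [lstep W6, lstep W5, lstep W6, lstep W5, lstep W6, lstep W5] 0) 11 30720 = true := by decide +kernel
theorem lift16_c16 : allPow 122760 (liftStep [lstep W6, lstep W5, lstep W6, lstep W5, lstep W6, lstep W5] 0) 11 32768 = true := by decide +kernel
theorem lift16_c17 : allPow 122760 (liftStep [lstep W6, lstep W5, lstep W6, lstep W5, lstep W6, lstep W5] 0) 11 34816 = true := by decide +kernel
theorem lift16_c18 : allPow 122760 (liftStep [lstep W6, lstep W5, lstep W6, lstep W5, lstep W6, lstep W5] 0) 11 36864 = true := by decide +kernel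
theorem lift16_c19 : allPow 122760 (liftStep [lstep W6, lstep W5, lstep W6, lstep W5, lstep W6, lstep W5] 0) 11 38912 = true := by decide +kernel
theorem lift16_c20 : allPow 122760 (liftStep [lstep W6, lstep W5, lstep W6, lstep W5, lstep W6, lstep W5] 0) 11 40960 = true := by decide +kernel
theorem lift16_c21 : allPow 122760 (liftStep [lstep W6, lstep W5, lstep W6, lstep W5, lstep W6, lstep W5] 0) 11 43008 = true := by decide +kernel
theorem lift16_c22 : allPow 122760 (liftStep [lstep W6, lstep W5, lstep W6, lstep W5, lstep W6, lstep W5] 0) 11 45056 = true := by decide +kernel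
theorem lift16_c23 : allPow 122760 (liftStep [lstep W6, lstep W5, lstep W6, lstep W5, lstep W6, lstep W5] 0) 11 47104 = true := by decide +kernel
theorem lift16_c24 : allPow 122760 (liftStep [lstep W6, lstep W5, lstep W6, lstep W5, lstep W6, lstep W5] 0) 11 49152 = true := by decide +kernel
theorem lift16_c25 : allPow 122760 (liftStep [lstep W6, lstep W5, lstep W6, lstep W5, lstep W6, lstep W5] 0) 11 51200 = true := by decide +kernel
theorem lift16_c26 : allPow 122760 (liftStep [lstep W6, lstep W5, lstep W6, lstep W5, lstep W6, lstep W5] 0) 11 53248 = true := by decide +kernel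
theorem lift16_c27 : allPow 122760 (liftStep [lstep W6, lstep W5, lstep W6, lstep W5, lstep W6, lstep W5] 0) 11 55296 = true := by decide +kernel
theorem lift16_c28 : allPow 122760 (liftStep [lstep W6, lstep W5, lstep W6, lstep W5, lstep W6, lstep W5] 0) 11 57344 = true := by decide +kernel
theorem lift16_c29 : allPow 122760 (liftStep [lstep W6, lstep W5, lstep W6, lstep W5, lstep W6, lstep W5] 0) 11 59392 = true := by decide +kernel
theorem lift16_c30 : allPow 122760 (liftStep [lstep W6, lstep W5, lstep W6, lstep W5, lstep W6, lstep W5] 0) 11 61440 = true := by decide +kernel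
theorem lift16_c31 : allPow 122760 (liftStep [lstep W6, lstep W5, lstep W6, lstep W5, lstep W6, lstep W5] 0) 11 63488 = true := by decide +kernel
theorem lift16_c32 : allPow 122760 (liftStep [lstep W6, lstep W5, lstep W6, lstep W5, lstep W6, lstep W5] 0) 11 65536 = true := by decide +kernel
theorem lift16_c33 : allPow 122760 (liftStep [lstep W6, lstep W5, lstep W6, lstep W5, lstep W6, lstep W5] 0) 11 67584 = true := by decide +kernel
theorem lift16_c34 : allPow 122760 (liftStep [lstep W6, lstep W5, lstep W6, lstep W5, lstep W6, lstep W5] 0) 11 69632 = true := by decide +kernel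
theorem lift16_c35 : allPow 122760 (liftStep [lstep W6, lstep W5, lstep W6, lstep W5, lstep W6, lstep W5] 0) 11 71680 = true := by decide +kernel
theorem lift16_c36 : allPow 122760 (liftStep [lstep W6, lstep W5, lstep W6, lstep W5, lstep W6, lstep W5] 0) 11 73728 = true := by decide +kernel
theorem lift16_c37 : allPow 122760 (liftStep [lstep W6, lstep W5, lstep W6, lstep W5, lstep W6, lstep W5] 0) 11 75776 = true := by decide +kernel
theorem lift16_c38 : allPow 122760 (liftStep [lstep W6, lstep W5, lstep W6, lstep W5, lstep W6, lstep W5] 0) 11 77824 = true := by decide +kernel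
theorem lift16_c39 : allPow 122760 (liftStep [lstep W6, lstep W5, lstep W6, lstep W5, lstep W6, lstep W5] 0) 11 79872 = true := by decide +kernel
theorem lift16_c40 : allPow 122760 (liftStep [lstep W6, lstep W5, lstep W6, lstep W5, lstep W6, lstep W5] 0) 11 81920 = true := by decide +kernel
theorem lift16_c41 : allPow 122760 (liftStep [lstep W6, lstep W5, lstep W6, lstep W5, lstep W6, lstep W5] 0) 11 83968 = true := by decide +kernel
theorem lift16_c42 : allPow 122760 (liftStep [lstep W6, lstep W5, lstep W6, lstep W5, lstep W6, lstep W5] 0) 11 86016 = true := by decide +kernel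
theorem lift16_c43 : allPow 122760 (liftStep [lstep W6, lstep W5, lstep W6, lstep W5, lstep W6, lstep W5] 0) 11 88064 = true := by decide +kernel
theorem lift16_c44 : allPow 122760 (liftStep [lstep W6, lstep W5, lstep W6, lstep W5, lstep W6, lstep W5] 0) 11 90112 = true := by decide +kernel
theorem lift16_c45 : allPow 122760 (liftStep [lstep W6, lstep W5, lstep W6, lstep W5, lstep W6, lstep W5] 0) 11 92160 = true := by decide +kernel
theorem lift16_c46 : allPow 122760 (liftStep [lstep W6, lstep W5, lstep W6, lstep W5, lstep W6, lstep W5] 0) 11 94208 = true := by decide +kernel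
theorem lift16_c47 : allPow 122760 (liftStep [lstep W6, lstep W5, lstep W6, lstep W5, lstep W6, lstep W5] 0) 11 96256 = true := by decide +kernel
theorem lift16_c48 : allPow 122760 (liftStep [lstep W6, lstep W5, lstep W6, lstep W5, lstep W6, lstep W5] 0) 11 98304 = true := by decide +kernel
theorem lift16_c49 : allPow 122760 (liftStep [lstep W6, lstep W5, lstep W6, lstep W5, lstep W6, lstep W5] 0) 11 100352 = true := by decide +kernel
theorem lift16_c50 : allPow 122760 (liftStep [lstep W6, lstep W5, lstep W6, lstep W5, lstep W6, lstep W5] 0) 11 102400 = true := by decide +kernel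
theorem lift16_c51 : allPow 122760 (liftStep [lstep W6, lstep W5, lstep W6, lstep W5, lstep W6, lstep W5] 0) 11 104448 = true := by decide +kernel
theorem lift16_c52 : allPow 122760 (liftStep [lstep W6, lstep W5, lstep W6, lstep W5, lstep W6, lstep W5] 0) 11 106496 = true := by decide +kernel
theorem lift16_c53 : allPow 122760 (liftStep [lstep W6, lstep W5, lstep W6, lstep W5, lstep W6, lstep W5] 0) 11 108544 = true := by decide +kernel
theorem lift16_c54 : allPow 122760 (liftStep [lstep W6, lstep W5, lstep W6, lstep W5, lstep W6, lstep W5] 0) 11 110592 = true := by decide +kernel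
theorem lift16_c55 : allPow 122760 (liftStep [lstep W6, lstep W5, lstep W6, lstep W5, lstep W6, lstep W5] 0) 11 112640 = true := by decide +kernel
theorem lift16_c56 : allPow 122760 (liftStep [lstep W6, lstep W5, lstep W6, lstep W5, lstep W6, lstep W5] 0) 11 114688 = true := by decide +kernel
theorem lift16_c57 : allPow 122760 (liftStep [lstep W6, lstep W5, lstep W6, lstep W5, lstep W6, lstep W5] 0) 11 116736 = true := by decide +kernel
theorem lift16_c58 : allPow 122760 (liftStep [lstep W6, lstep W5, lstep W6, lstep W5, lstep W6, lstep W5] 0) 11 118784 = true := by decide +kernel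
theorem lift16_c59 : allPow 122760 (liftStep [lstep W6, lstep W5, lstep W6, lstep W5, lstep W6, lstep W5] 0) 11 120832 = true := by decide +kernel
theorem lift16 : allBelow 17 122760 (liftStep [lstep W6, lstep W5, lstep W6, lstep W5, lstep W6, lstep W5] 0) = true :=
  allBelow_of_upto (hi := 122880)
    (Upto.trans (mid := 61440) (Upto.trans (mid := 30720) (Upto.trans (mid := 14336) (Upto.trans (mid := 6144) (Upto.trans (mid := 2048) ((Upto.of_pow lift16_c0 (Nat.le_refl _)) : Upto _ _ 0 (0 + 2 ^ 11))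
    (Upto.trans (mid := 4096) ((Upto.of_pow lift16_c1 (Nat.le_refl _)) : Upto _ _ 2048 (2048 + 2 ^ 11))
    ((Upto.of_pow lift16_c2 (Nat.le_refl _)) : Upto _ _ 4096 (4096 + 2 ^ 11))))
    (Upto.trans (mid := 10240) (Upto.trans (mid := 8192) ((Upto.of_pow lift16_c3 (Nat.le_refl _)) : Upto _ _ 6144 (6144 + 2 ^ 11))
    ((Upto.of_pow lift16_c4 (Nat.le_refl _)) : Upto _ _ 8192 (8192 + 2 ^ 11)))
    (Upto.trans (mid := 12288) ((Upto.of_pow lift16_c5 (Nat.le_refl _)) : Upto _ _ 10240 (10240 + 2 ^ 11))
    ((Upto.of_pow lift16_c6 (Nat.le_refl _)) : Upto _ _ 12288 (12288 + 2 ^ 11)))))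
    (Upto.trans (mid := 22528) (Upto.trans (mid := 18432) (Upto.trans (mid := 16384) ((Upto.of_pow lift16_c7 (Nat.le_refl _)) : Upto _ _ 14336 (14336 + 2 ^ 11))
    ((Upto.of_pow lift16_c8 (Nat.le_refl _)) : Upto _ _ 16384 (16384 + 2 ^ 11)))
    (Upto.trans (mid := 20480) ((Upto.of_pow lift16_c9 (Nat.le_refl _)) : Upto _ _ 18432 (18432 + 2 ^ 11))
    ((Upto.of_pow lift16_c10 (Nat.le_refl _)) : Upto _ _ 20480 (20480 + 2 ^ 11))))
    (Upto.trans (mid := 26624) (Upto.trans (mid := 24576) ((Upto.of_pow lift16_c11 (Nat.le_refl _)) : Upto _ _ 22528 (22528 + 2 ^ 11))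
    ((Upto.of_pow lift16_c12 (Nat.le_refl _)) : Upto _ _ 24576 (24576 + 2 ^ 11)))
    (Upto.trans (mid := 28672) ((Upto.of_pow lift16_c13 (Nat.le_refl _)) : Upto _ _ 26624 (26624 + 2 ^ 11))
    ((Upto.of_pow lift16_c14 (Nat.le_refl _)) : Upto _ _ 28672 (28672 + 2 ^ 11))))))
    (Upto.trans (mid := 45056) (Upto.trans (mid := 36864) (Upto.trans (mid := 32768) ((Upto.of_pow lift16_c15 (Nat.le_refl _)) : Upto _ _ 30720 (30720 + 2 ^ 11))
    (Upto.trans (mid := 34816) ((Upto.of_pow lift16_c16 (Nat.le_refl _)) : Upto _ _ 32768 (32768 + 2 ^ 11))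
    ((Upto.of_pow lift16_c17 (Nat.le_refl _)) : Upto _ _ 34816 (34816 + 2 ^ 11))))
    (Upto.trans (mid := 40960) (Upto.trans (mid := 38912) ((Upto.of_pow lift16_c18 (Nat.le_refl _)) : Upto _ _ 36864 (36864 + 2 ^ 11))
    ((Upto.of_pow lift16_c19 (Nat.le_refl _)) : Upto _ _ 38912 (38912 + 2 ^ 11)))
    (Upto.trans (mid := 43008) ((Upto.of_pow lift16_c20 (Nat.le_refl _)) : Upto _ _ 40960 (40960 + 2 ^ 11))
    ((Upto.of_pow lift16_c21 (Nat.le_refl _)) : Upto _ _ 43008 (43008 + 2 ^ 11)))))
    (Upto.trans (mid := 53248) (Upto.trans (mid := 49152) (Upto.trans (mid := 47104) ((Upto.of_pow lift16_c22 (Nat.le_refl _)) : Upto _ _ 45056 (45056 + 2 ^ 11))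
    ((Upto.of_pow lift16_c23 (Nat.le_refl _)) : Upto _ _ 47104 (47104 + 2 ^ 11)))
    (Upto.trans (mid := 51200) ((Upto.of_pow lift16_c24 (Nat.le_refl _)) : Upto _ _ 49152 (49152 + 2 ^ 11))
    ((Upto.of_pow lift16_c25 (Nat.le_refl _)) : Upto _ _ 51200 (51200 + 2 ^ 11))))
    (Upto.trans (mid := 57344) (Upto.trans (mid := 55296) ((Upto.of_pow lift16_c26 (Nat.le_refl _)) : Upto _ _ 53248 (53248 + 2 ^ 11))
    ((Upto.of_pow lift16_c27 (Nat.le_refl _)) : Upto _ _ 55296 (55296 + 2 ^ 11)))
    (Upto.trans (mid := 59392) ((Upto.of_pow lift16_c28 (Nat.le_refl _)) : Upto _ _ 57344 (57344 + 2 ^ 11))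
    ((Upto.of_pow lift16_c29 (Nat.le_refl _)) : Upto _ _ 59392 (59392 + 2 ^ 11)))))))
    (Upto.trans (mid := 92160) (Upto.trans (mid := 75776) (Upto.trans (mid := 67584) (Upto.trans (mid := 63488) ((Upto.of_pow lift16_c30 (Nat.le_refl _)) : Upto _ _ 61440 (61440 + 2 ^ 11))
    (Upto.trans (mid := 65536) ((Upto.of_pow lift16_c31 (Nat.le_refl _)) : Upto _ _ 63488 (63488 + 2 ^ 11))
    ((Upto.of_pow lift16_c32 (Nat.le_refl _)) : Upto _ _ 65536 (65536 + 2 ^ 11))))
    (Upto.trans (mid := 71680) (Upto.trans (mid := 69632) ((Upto.of_pow lift16_c33 (Nat.le_refl _)) : Upto _ _ 67584 (67584 + 2 ^ 11))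
    ((Upto.of_pow lift16_c34 (Nat.le_refl _)) : Upto _ _ 69632 (69632 + 2 ^ 11)))
    (Upto.trans (mid := 73728) ((Upto.of_pow lift16_c35 (Nat.le_refl _)) : Upto _ _ 71680 (71680 + 2 ^ 11))
    ((Upto.of_pow lift16_c36 (Nat.le_refl _)) : Upto _ _ 73728 (73728 + 2 ^ 11)))))
    (Upto.trans (mid := 83968) (Upto.trans (mid := 79872) (Upto.trans (mid := 77824) ((Upto.of_pow lift16_c37 (Nat.le_refl _)) : Upto _ _ 75776 (75776 + 2 ^ 11))
    ((Upto.of_pow lift16_c38 (Nat.le_refl _)) : Upto _ _ 77824 (77824 + 2 ^ 11)))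
    (Upto.trans (mid := 81920) ((Upto.of_pow lift16_c39 (Nat.le_refl _)) : Upto _ _ 79872 (79872 + 2 ^ 11))
    ((Upto.of_pow lift16_c40 (Nat.le_refl _)) : Upto _ _ 81920 (81920 + 2 ^ 11))))
    (Upto.trans (mid := 88064) (Upto.trans (mid := 86016) ((Upto.of_pow lift16_c41 (Nat.le_refl _)) : Upto _ _ 83968 (83968 + 2 ^ 11))
    ((Upto.of_pow lift16_c42 (Nat.le_refl _)) : Upto _ _ 86016 (86016 + 2 ^ 11)))
    (Upto.trans (mid := 90112) ((Upto.of_pow lift16_c43 (Nat.le_refl _)) : Upto _ _ 88064 (88064 + 2 ^ 11))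
    ((Upto.of_pow lift16_c44 (Nat.le_refl _)) : Upto _ _ 90112 (90112 + 2 ^ 11))))))
    (Upto.trans (mid := 106496) (Upto.trans (mid := 98304) (Upto.trans (mid := 94208) ((Upto.of_pow lift16_c45 (Nat.le_refl _)) : Upto _ _ 92160 (92160 + 2 ^ 11))
    (Upto.trans (mid := 96256) ((Upto.of_pow lift16_c46 (Nat.le_refl _)) : Upto _ _ 94208 (94208 + 2 ^ 11))
    ((Upto.of_pow lift16_c47 (Nat.le_refl _)) : Upto _ _ 96256 (96256 + 2 ^ 11))))
    (Upto.trans (mid := 102400) (Upto.trans (mid := 100352) ((Upto.of_pow lift16_c48 (Nat.le_refl _)) : Upto _ _ 98304 (98304 + 2 ^ 11))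
    ((Upto.of_pow lift16_c49 (Nat.le_refl _)) : Upto _ _ 100352 (100352 + 2 ^ 11)))
    (Upto.trans (mid := 104448) ((Upto.of_pow lift16_c50 (Nat.le_refl _)) : Upto _ _ 102400 (102400 + 2 ^ 11))
    ((Upto.of_pow lift16_c51 (Nat.le_refl _)) : Upto _ _ 104448 (104448 + 2 ^ 11)))))
    (Upto.trans (mid := 114688) (Upto.trans (mid := 110592) (Upto.trans (mid := 108544) ((Upto.of_pow lift16_c52 (Nat.le_refl _)) : Upto _ _ 106496 (106496 + 2 ^ 11))
    ((Upto.of_pow lift16_c53 (Nat.le_refl _)) : Upto _ _ 108544 (108544 + 2 ^ 11)))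
    (Upto.trans (mid := 112640) ((Upto.of_pow lift16_c54 (Nat.le_refl _)) : Upto _ _ 110592 (110592 + 2 ^ 11))
    ((Upto.of_pow lift16_c55 (Nat.le_refl _)) : Upto _ _ 112640 (112640 + 2 ^ 11))))
    (Upto.trans (mid := 118784) (Upto.trans (mid := 116736) ((Upto.of_pow lift16_c56 (Nat.le_refl _)) : Upto _ _ 114688 (114688 + 2 ^ 11))
    ((Upto.of_pow lift16_c57 (Nat.le_refl _)) : Upto _ _ 116736 (116736 + 2 ^ 11)))
    (Upto.trans (mid := 120832) ((Upto.of_pow lift16_c58 (Nat.le_refl _)) : Upto _ _ 118784 (118784 + 2 ^ 11))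
    ((Upto.of_pow lift16_c59 (Nat.le_refl _)) : Upto _ _ 120832 (120832 + 2 ^ 11))))))))
    (by decide) (by decide)
theorem lift14_c0 : allPow 122760 (liftStep [lstep W7, lstep W4, lstep W7, lstep W4] 0) 11 0 = true := by decide +kernel
theorem lift14_c1 : allPow 122760 (liftStep [lstep W7, lstep W4, lstep W7, lstep W4] 0) 11 2048 = true := by decide +kernel
theorem lift14_c2 : allPow 122760 (liftStep [lstep W7, lstep W4, lstep W7, lstep W4] 0) 11 4096 = true := by decide +kernel
theorem lift14_c3 : allPow 122760 (liftStep [lstep W7, lstep W4, lstep W7, lstep W4] 0) 11 6144 = true := by decide +kernel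
theorem lift14_c4 : allPow 122760 (liftStep [lstep W7, lstep W4, lstep W7, lstep W4] 0) 11 8192 = true := by decide +kernel
theorem lift14_c5 : allPow 122760 (liftStep [lstep W7, lstep W4, lstep W7, lstep W4] 0) 11 10240 = true := by decide +kernel
theorem lift14_c6 : allPow 122760 (liftStep [lstep W7, lstep W4, lstep W7, lstep W4] 0) 11 12288 = true := by decide +kernel
theorem lift14_c7 : allPow 122760 (liftStep [lstep W7, lstep W4, lstep W7, lstep W4] 0) 11 14336 = true := by decide +kernel
theorem lift14_c8 : allPow 122760 (liftStep [lstep W7, lstep W4, lstep W7, lstep W4] 0) 11 16384 = true := by decide +kernel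
theorem lift14_c9 : allPow 122760 (liftStep [lstep W7, lstep W4, lstep W7, lstep W4] 0) 11 18432 = true := by decide +kernel
theorem lift14_c10 : allPow 122760 (liftStep [lstep W7, lstep W4, lstep W7, lstep W4] 0) 11 20480 = true := by decide +kernel
theorem lift14_c11 : allPow 122760 (liftStep [lstep W7, lstep W4, lstep W7, lstep W4] 0) 11 22528 = true := by decide +kernel
theorem lift14_c12 : allPow 122760 (liftStep [lstep W7, lstep W4, lstep W7, lstep W4] 0) 11 24576 = true := by decide +kernel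
theorem lift14_c13 : allPow 122760 (liftStep [lstep W7, lstep W4, lstep W7, lstep W4] 0) 11 26624 = true := by decide +kernel
theorem lift14_c14 : allPow 122760 (liftStep [lstep W7, lstep W4, lstep W7, lstep W4] 0) 11 28672 = true := by decide +kernel
theorem lift14_c15 : allPow 122760 (liftStep [lstep W7, lstep W4, lstep W7, lstep W4] 0) 11 30720 = true := by decide +kernel
theorem lift14_c16 : allPow 122760 (liftStep [lstep W7, lstep W4, lstep W7, lstep W4] 0) 11 32768 = true := by decide +kernel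
theorem lift14_c17 : allPow 122760 (liftStep [lstep W7, lstep W4, lstep W7, lstep W4] 0) 11 34816 = true := by decide +kernel
theorem lift14_c18 : allPow 122760 (liftStep [lstep W7, lstep W4, lstep W7, lstep W4] 0) 11 36864 = true := by decide +kernel
theorem lift14_c19 : allPow 122760 (liftStep [lstep W7, lstep W4, lstep W7, lstep W4] 0) 11 38912 = true := by decide +kernel
theorem lift14_c20 : allPow 122760 (liftStep [lstep W7, lstep W4, lstep W7, lstep W4] 0) 11 40960 = true := by decide +kernel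
theorem lift14_c21 : allPow 122760 (liftStep [lstep W7, lstep W4, lstep W7, lstep W4] 0) 11 43008 = true := by decide +kernel
theorem lift14_c22 : allPow 122760 (liftStep [lstep W7, lstep W4, lstep W7, lstep W4] 0) 11 45056 = true := by decide +kernel
theorem lift14_c23 : allPow 122760 (liftStep [lstep W7, lstep W4, lstep W7, lstep W4] 0) 11 47104 = true := by decide +kernel
theorem lift14_c24 : allPow 122760 (liftStep [lstep W7, lstep W4, lstep W7, lstep W4] 0) 11 49152 = true := by decide +kernel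
theorem lift14_c25 : allPow 122760 (liftStep [lstep W7, lstep W4, lstep W7, lstep W4] 0) 11 51200 = true := by decide +kernel
theorem lift14_c26 : allPow 122760 (liftStep [lstep W7, lstep W4, lstep W7, lstep W4] 0) 11 53248 = true := by decide +kernel
theorem lift14_c27 : allPow 122760 (liftStep [lstep W7, lstep W4, lstep W7, lstep W4] 0) 11 55296 = true := by decide +kernel
theorem lift14_c28 : allPow 122760 (liftStep [lstep W7, lstep W4, lstep W7, lstep W4] 0) 11 57344 = true := by decide +kernel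
theorem lift14_c29 : allPow 122760 (liftStep [lstep W7, lstep W4, lstep W7, lstep W4] 0) 11 59392 = true := by decide +kernel
theorem lift14_c30 : allPow 122760 (liftStep [lstep W7, lstep W4, lstep W7, lstep W4] 0) 11 61440 = true := by decide +kernel
theorem lift14_c31 : allPow 122760 (liftStep [lstep W7, lstep W4, lstep W7, lstep W4] 0) 11 63488 = true := by decide +kernel
theorem lift14_c32 : allPow 122760 (liftStep [lstep W7, lstep W4, lstep W7, lstep W4] 0) 11 65536 = true := by decide +kernel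
theorem lift14_c33 : allPow 122760 (liftStep [lstep W7, lstep W4, lstep W7, lstep W4] 0) 11 67584 = true := by decide +kernel
theorem lift14_c34 : allPow 122760 (liftStep [lstep W7, lstep W4, lstep W7, lstep W4] 0) 11 69632 = true := by decide +kernel
theorem lift14_c35 : allPow 122760 (liftStep [lstep W7, lstep W4, lstep W7, lstep W4] 0) 11 71680 = true := by decide +kernel
theorem lift14_c36 : allPow 122760 (liftStep [lstep W7, lstep W4, lstep W7, lstep W4] 0) 11 73728 = true := by decide +kernel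
theorem lift14_c37 : allPow 122760 (liftStep [lstep W7, lstep W4, lstep W7, lstep W4] 0) 11 75776 = true := by decide +kernel
theorem lift14_c38 : allPow 122760 (liftStep [lstep W7, lstep W4, lstep W7, lstep W4] 0) 11 77824 = true := by decide +kernel
theorem lift14_c39 : allPow 122760 (liftStep [lstep W7, lstep W4, lstep W7, lstep W4] 0) 11 79872 = true := by decide +kernel
theorem lift14_c40 : allPow 122760 (liftStep [lstep W7, lstep W4, lstep W7, lstep W4] 0) 11 81920 = true := by decide +kernel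
theorem lift14_c41 : allPow 122760 (liftStep [lstep W7, lstep W4, lstep W7, lstep W4] 0) 11 83968 = true := by decide +kernel
theorem lift14_c42 : allPow 122760 (liftStep [lstep W7, lstep W4, lstep W7, lstep W4] 0) 11 86016 = true := by decide +kernel
theorem lift14_c43 : allPow 122760 (liftStep [lstep W7, lstep W4, lstep W7, lstep W4] 0) 11 88064 = true := by decide +kernel
theorem lift14_c44 : allPow 122760 (liftStep [lstep W7, lstep W4, lstep W7, lstep W4] 0) 11 90112 = true := by decide +kernel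
theorem lift14_c45 : allPow 122760 (liftStep [lstep W7, lstep W4, lstep W7, lstep W4] 0) 11 92160 = true := by decide +kernel
theorem lift14_c46 : allPow 122760 (liftStep [lstep W7, lstep W4, lstep W7, lstep W4] 0) 11 94208 = true := by decide +kernel
theorem lift14_c47 : allPow 122760 (liftStep [lstep W7, lstep W4, lstep W7, lstep W4] 0) 11 96256 = true := by decide +kernel
theorem lift14_c48 : allPow 122760 (liftStep [lstep W7, lstep W4, lstep W7, lstep W4] 0) 11 98304 = true := by decide +kernel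
theorem lift14_c49 : allPow 122760 (liftStep [lstep W7, lstep W4, lstep W7, lstep W4] 0) 11 100352 = true := by decide +kernel
theorem lift14_c50 : allPow 122760 (liftStep [lstep W7, lstep W4, lstep W7, lstep W4] 0) 11 102400 = true := by decide +kernel
theorem lift14_c51 : allPow 122760 (liftStep [lstep W7, lstep W4, lstep W7, lstep W4] 0) 11 104448 = true := by decide +kernel
theorem lift14_c52 : allPow 122760 (liftStep [lstep W7, lstep W4, lstep W7, lstep W4] 0) 11 106496 = true := by decide +kernel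
theorem lift14_c53 : allPow 122760 (liftStep [lstep W7, lstep W4, lstep W7, lstep W4] 0) 11 108544 = true := by decide +kernel
theorem lift14_c54 : allPow 122760 (liftStep [lstep W7, lstep W4, lstep W7, lstep W4] 0) 11 110592 = true := by decide +kernel
theorem lift14_c55 : allPow 122760 (liftStep [lstep W7, lstep W4, lstep W7, lstep W4] 0) 11 112640 = true := by decide +kernel
theorem lift14_c56 : allPow 122760 (liftStep [lstep W7, lstep W4, lstep W7, lstep W4] 0) 11 114688 = true := by decide +kernel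
theorem lift14_c57 : allPow 122760 (liftStep [lstep W7, lstep W4, lstep W7, lstep W4] 0) 11 116736 = true := by decide +kernel
theorem lift14_c58 : allPow 122760 (liftStep [lstep W7, lstep W4, lstep W7, lstep W4] 0) 11 118784 = true := by decide +kernel
theorem lift14_c59 : allPow 122760 (liftStep [lstep W7, lstep W4, lstep W7, lstep W4] 0) 11 120832 = true := by decide +kernel
theorem lift14 : allBelow 17 122760 (liftStep [lstep W7, lstep W4, lstep W7, lstep W4] 0) = true :=
  allBelow_of_upto (hi := 122880)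
    (Upto.trans (mid := 61440) (Upto.trans (mid := 30720) (Upto.trans (mid := 14336) (Upto.trans (mid := 6144) (Upto.trans (mid := 2048) ((Upto.of_pow lift14_c0 (Nat.le_refl _)) : Upto _ _ 0 (0 + 2 ^ 11))
    (Upto.trans (mid := 4096) ((Upto.of_pow lift14_c1 (Nat.le_refl _)) : Upto _ _ 2048 (2048 + 2 ^ 11))
    ((Upto.of_pow lift14_c2 (Nat.le_refl _)) : Upto _ _ 4096 (4096 + 2 ^ 11))))
    (Upto.trans (mid := 10240) (Upto.trans (mid := 8192) ((Upto.of_pow lift14_c3 (Nat.le_refl _)) : Upto _ _ 6144 (6144 + 2 ^ 11))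
    ((Upto.of_pow lift14_c4 (Nat.le_refl _)) : Upto _ _ 8192 (8192 + 2 ^ 11)))
    (Upto.trans (mid := 12288) ((Upto.of_pow lift14_c5 (Nat.le_refl _)) : Upto _ _ 10240 (10240 + 2 ^ 11))
    ((Upto.of_pow lift14_c6 (Nat.le_refl _)) : Upto _ _ 12288 (12288 + 2 ^ 11)))))
    (Upto.trans (mid := 22528) (Upto.trans (mid := 18432) (Upto.trans (mid := 16384) ((Upto.of_pow lift14_c7 (Nat.le_refl _)) : Upto _ _ 14336 (14336 + 2 ^ 11))
    ((Upto.of_pow lift14_c8 (Nat.le_refl _)) : Upto _ _ 16384 (16384 + 2 ^ 11)))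
    (Upto.trans (mid := 20480) ((Upto.of_pow lift14_c9 (Nat.le_refl _)) : Upto _ _ 18432 (18432 + 2 ^ 11))
    ((Upto.of_pow lift14_c10 (Nat.le_refl _)) : Upto _ _ 20480 (20480 + 2 ^ 11))))
    (Upto.trans (mid := 26624) (Upto.trans (mid := 24576) ((Upto.of_pow lift14_c11 (Nat.le_refl _)) : Upto _ _ 22528 (22528 + 2 ^ 11))
    ((Upto.of_pow lift14_c12 (Nat.le_refl _)) : Upto _ _ 24576 (24576 + 2 ^ 11)))
    (Upto.trans (mid := 28672) ((Upto.of_pow lift14_c13 (Nat.le_refl _)) : Upto _ _ 26624 (26624 + 2 ^ 11))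
    ((Upto.of_pow lift14_c14 (Nat.le_refl _)) : Upto _ _ 28672 (28672 + 2 ^ 11))))))
    (Upto.trans (mid := 45056) (Upto.trans (mid := 36864) (Upto.trans (mid := 32768) ((Upto.of_pow lift14_c15 (Nat.le_refl _)) : Upto _ _ 30720 (30720 + 2 ^ 11))
    (Upto.trans (mid := 34816) ((Upto.of_pow lift14_c16 (Nat.le_refl _)) : Upto _ _ 32768 (32768 + 2 ^ 11))
    ((Upto.of_pow lift14_c17 (Nat.le_refl _)) : Upto _ _ 34816 (34816 + 2 ^ 11))))
    (Upto.trans (mid := 40960) (Upto.trans (mid := 38912) ((Upto.of_pow lift14_c18 (Nat.le_refl _)) : Upto _ _ 36864 (36864 + 2 ^ 11))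
    ((Upto.of_pow lift14_c19 (Nat.le_refl _)) : Upto _ _ 38912 (38912 + 2 ^ 11)))
    (Upto.trans (mid := 43008) ((Upto.of_pow lift14_c20 (Nat.le_refl _)) : Upto _ _ 40960 (40960 + 2 ^ 11))
    ((Upto.of_pow lift14_c21 (Nat.le_refl _)) : Upto _ _ 43008 (43008 + 2 ^ 11)))))
    (Upto.trans (mid := 53248) (Upto.trans (mid := 49152) (Upto.trans (mid := 47104) ((Upto.of_pow lift14_c22 (Nat.le_refl _)) : Upto _ _ 45056 (45056 + 2 ^ 11))
    ((Upto.of_pow lift14_c23 (Nat.le_refl _)) : Upto _ _ 47104 (47104 + 2 ^ 11)))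
    (Upto.trans (mid := 51200) ((Upto.of_pow lift14_c24 (Nat.le_refl _)) : Upto _ _ 49152 (49152 + 2 ^ 11))
    ((Upto.of_pow lift14_c25 (Nat.le_refl _)) : Upto _ _ 51200 (51200 + 2 ^ 11))))
    (Upto.trans (mid := 57344) (Upto.trans (mid := 55296) ((Upto.of_pow lift14_c26 (Nat.le_refl _)) : Upto _ _ 53248 (53248 + 2 ^ 11))
    ((Upto.of_pow lift14_c27 (Nat.le_refl _)) : Upto _ _ 55296 (55296 + 2 ^ 11)))
    (Upto.trans (mid := 59392) ((Upto.of_pow lift14_c28 (Nat.le_refl _)) : Upto _ _ 57344 (57344 + 2 ^ 11))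
    ((Upto.of_pow lift14_c29 (Nat.le_refl _)) : Upto _ _ 59392 (59392 + 2 ^ 11)))))))
    (Upto.trans (mid := 92160) (Upto.trans (mid := 75776) (Upto.trans (mid := 67584) (Upto.trans (mid := 63488) ((Upto.of_pow lift14_c30 (Nat.le_refl _)) : Upto _ _ 61440 (61440 + 2 ^ 11))
    (Upto.trans (mid := 65536) ((Upto.of_pow lift14_c31 (Nat.le_refl _)) : Upto _ _ 63488 (63488 + 2 ^ 11))
    ((Upto.of_pow lift14_c32 (Nat.le_refl _)) : Upto _ _ 65536 (65536 + 2 ^ 11))))
    (Upto.trans (mid := 71680) (Upto.trans (mid := 69632) ((Upto.of_pow lift14_c33 (Nat.le_refl _)) : Upto _ _ 67584 (67584 + 2 ^ 11))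
    ((Upto.of_pow lift14_c34 (Nat.le_refl _)) : Upto _ _ 69632 (69632 + 2 ^ 11)))
    (Upto.trans (mid := 73728) ((Upto.of_pow lift14_c35 (Nat.le_refl _)) : Upto _ _ 71680 (71680 + 2 ^ 11))
    ((Upto.of_pow lift14_c36 (Nat.le_refl _)) : Upto _ _ 73728 (73728 + 2 ^ 11)))))
    (Upto.trans (mid := 83968) (Upto.trans (mid := 79872) (Upto.trans (mid := 77824) ((Upto.of_pow lift14_c37 (Nat.le_refl _)) : Upto _ _ 75776 (75776 + 2 ^ 11))
    ((Upto.of_pow lift14_c38 (Nat.le_refl _)) : Upto _ _ 77824 (77824 + 2 ^ 11)))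
    (Upto.trans (mid := 81920) ((Upto.of_pow lift14_c39 (Nat.le_refl _)) : Upto _ _ 79872 (79872 + 2 ^ 11))
    ((Upto.of_pow lift14_c40 (Nat.le_refl _)) : Upto _ _ 81920 (81920 + 2 ^ 11))))
    (Upto.trans (mid := 88064) (Upto.trans (mid := 86016) ((Upto.of_pow lift14_c41 (Nat.le_refl _)) : Upto _ _ 83968 (83968 + 2 ^ 11))
    ((Upto.of_pow lift14_c42 (Nat.le_refl _)) : Upto _ _ 86016 (86016 + 2 ^ 11)))
    (Upto.trans (mid := 90112) ((Upto.of_pow lift14_c43 (Nat.le_refl _)) : Upto _ _ 88064 (88064 + 2 ^ 11))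
    ((Upto.of_pow lift14_c44 (Nat.le_refl _)) : Upto _ _ 90112 (90112 + 2 ^ 11))))))
    (Upto.trans (mid := 106496) (Upto.trans (mid := 98304) (Upto.trans (mid := 94208) ((Upto.of_pow lift14_c45 (Nat.le_refl _)) : Upto _ _ 92160 (92160 + 2 ^ 11))
    (Upto.trans (mid := 96256) ((Upto.of_pow lift14_c46 (Nat.le_refl _)) : Upto _ _ 94208 (94208 + 2 ^ 11))
    ((Upto.of_pow lift14_c47 (Nat.le_refl _)) : Upto _ _ 96256 (96256 + 2 ^ 11))))
    (Upto.trans (mid := 102400) (Upto.trans (mid := 100352) ((Upto.of_pow lift14_c48 (Nat.le_refl _)) : Upto _ _ 98304 (98304 + 2 ^ 11))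
    ((Upto.of_pow lift14_c49 (Nat.le_refl _)) : Upto _ _ 100352 (100352 + 2 ^ 11)))
    (Upto.trans (mid := 104448) ((Upto.of_pow lift14_c50 (Nat.le_refl _)) : Upto _ _ 102400 (102400 + 2 ^ 11))
    ((Upto.of_pow lift14_c51 (Nat.le_refl _)) : Upto _ _ 104448 (104448 + 2 ^ 11)))))
    (Upto.trans (mid := 114688) (Upto.trans (mid := 110592) (Upto.trans (mid := 108544) ((Upto.of_pow lift14_c52 (Nat.le_refl _)) : Upto _ _ 106496 (106496 + 2 ^ 11))
    ((Upto.of_pow lift14_c53 (Nat.le_refl _)) : Upto _ _ 108544 (108544 + 2 ^ 11)))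
    (Upto.trans (mid := 112640) ((Upto.of_pow lift14_c54 (Nat.le_refl _)) : Upto _ _ 110592 (110592 + 2 ^ 11))
    ((Upto.of_pow lift14_c55 (Nat.le_refl _)) : Upto _ _ 112640 (112640 + 2 ^ 11))))
    (Upto.trans (mid := 118784) (Upto.trans (mid := 116736) ((Upto.of_pow lift14_c56 (Nat.le_refl _)) : Upto _ _ 114688 (114688 + 2 ^ 11))
    ((Upto.of_pow lift14_c57 (Nat.le_refl _)) : Upto _ _ 116736 (116736 + 2 ^ 11)))
    (Upto.trans (mid := 120832) ((Upto.of_pow lift14_c58 (Nat.le_refl _)) : Upto _ _ 118784 (118784 + 2 ^ 11))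
    ((Upto.of_pow lift14_c59 (Nat.le_refl _)) : Upto _ _ 120832 (120832 + 2 ^ 11))))))))
    (by decide) (by decide)
theorem lift20_c0 : allPow 122760 (liftStep [lstep W7, lstep W7] 0) 11 0 = true := by decide +kernel
theorem lift20_c1 : allPow 122760 (liftStep [lstep W7, lstep W7] 0) 11 2048 = true := by decide +kernel
theorem lift20_c2 : allPow 122760 (liftStep [lstep W7, lstep W7] 0) 11 4096 = true := by decide +kernel
theorem lift20_c3 : allPow 122760 (liftStep [lstep W7, lstep W7] 0) 11 6144 = true := by decide +kernel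
theorem lift20_c4 : allPow 122760 (liftStep [lstep W7, lstep W7] 0) 11 8192 = true := by decide +kernel
theorem lift20_c5 : allPow 122760 (liftStep [lstep W7, lstep W7] 0) 11 10240 = true := by decide +kernel
theorem lift20_c6 : allPow 122760 (liftStep [lstep W7, lstep W7] 0) 11 12288 = true := by decide +kernel
theorem lift20_c7 : allPow 122760 (liftStep [lstep W7, lstep W7] 0) 11 14336 = true := by decide +kernel
theorem lift20_c8 : allPow 122760 (liftStep [lstep W7, lstep W7] 0) 11 16384 = true := by decide +kernel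
theorem lift20_c9 : allPow 122760 (liftStep [lstep W7, lstep W7] 0) 11 18432 = true := by decide +kernel
theorem lift20_c10 : allPow 122760 (liftStep [lstep W7, lstep W7] 0) 11 20480 = true := by decide +kernel
theorem lift20_c11 : allPow 122760 (liftStep [lstep W7, lstep W7] 0) 11 22528 = true := by decide +kernel
theorem lift20_c12 : allPow 122760 (liftStep [lstep W7, lstep W7] 0) 11 24576 = true := by decide +kernel
theorem lift20_c13 : allPow 122760 (liftStep [lstep W7, lstep W7] 0) 11 26624 = true := by decide +kernel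
theorem lift20_c14 : allPow 122760 (liftStep [lstep W7, lstep W7] 0) 11 28672 = true := by decide +kernel
theorem lift20_c15 : allPow 122760 (liftStep [lstep W7, lstep W7] 0) 11 30720 = true := by decide +kernel
theorem lift20_c16 : allPow 122760 (liftStep [lstep W7, lstep W7] 0) 11 32768 = true := by decide +kernel
theorem lift20_c17 : allPow 122760 (liftStep [lstep W7, lstep W7] 0) 11 34816 = true := by decide +kernel
theorem lift20_c18 : allPow 122760 (liftStep [lstep W7, lstep W7] 0) 11 36864 = true := by decide +kernel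
theorem lift20_c19 : allPow 122760 (liftStep [lstep W7, lstep W7] 0) 11 38912 = true := by decide +kernel
theorem lift20_c20 : allPow 122760 (liftStep [lstep W7, lstep W7] 0) 11 40960 = true := by decide +kernel
theorem lift20_c21 : allPow 122760 (liftStep [lstep W7, lstep W7] 0) 11 43008 = true := by decide +kernel
theorem lift20_c22 : allPow 122760 (liftStep [lstep W7, lstep W7] 0) 11 45056 = true := by decide +kernel
theorem lift20_c23 : allPow 122760 (liftStep [lstep W7, lstep W7] 0) 11 47104 = true := by decide +kernel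
theorem lift20_c24 : allPow 122760 (liftStep [lstep W7, lstep W7] 0) 11 49152 = true := by decide +kernel
theorem lift20_c25 : allPow 122760 (liftStep [lstep W7, lstep W7] 0) 11 51200 = true := by decide +kernel
theorem lift20_c26 : allPow 122760 (liftStep [lstep W7, lstep W7] 0) 11 53248 = true := by decide +kernel
theorem lift20_c27 : allPow 122760 (liftStep [lstep W7, lstep W7] 0) 11 55296 = true := by decide +kernel
theorem lift20_c28 : allPow 122760 (liftStep [lstep W7, lstep W7] 0) 11 57344 = true := by decide +kernel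
theorem lift20_c29 : allPow 122760 (liftStep [lstep W7, lstep W7] 0) 11 59392 = true := by decide +kernel
theorem lift20_c30 : allPow 122760 (liftStep [lstep W7, lstep W7] 0) 11 61440 = true := by decide +kernel
theorem lift20_c31 : allPow 122760 (liftStep [lstep W7, lstep W7] 0) 11 63488 = true := by decide +kernel
theorem lift20_c32 : allPow 122760 (liftStep [lstep W7, lstep W7] 0) 11 65536 = true := by decide +kernel
theorem lift20_c33 : allPow 122760 (liftStep [lstep W7, lstep W7] 0) 11 67584 = true := by decide +kernel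
theorem lift20_c34 : allPow 122760 (liftStep [lstep W7, lstep W7] 0) 11 69632 = true := by decide +kernel
theorem lift20_c35 : allPow 122760 (liftStep [lstep W7, lstep W7] 0) 11 71680 = true := by decide +kernel
theorem lift20_c36 : allPow 122760 (liftStep [lstep W7, lstep W7] 0) 11 73728 = true := by decide +kernel
theorem lift20_c37 : allPow 122760 (liftStep [lstep W7, lstep W7] 0) 11 75776 = true := by decide +kernel
theorem lift20_c38 : allPow 122760 (liftStep [lstep W7, lstep W7] 0) 11 77824 = true := by decide +kernel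
theorem lift20_c39 : allPow 122760 (liftStep [lstep W7, lstep W7] 0) 11 79872 = true := by decide +kernel
theorem lift20_c40 : allPow 122760 (liftStep [lstep W7, lstep W7] 0) 11 81920 = true := by decide +kernel
theorem lift20_c41 : allPow 122760 (liftStep [lstep W7, lstep W7] 0) 11 83968 = true := by decide +kernel
theorem lift20_c42 : allPow 122760 (liftStep [lstep W7, lstep W7] 0) 11 86016 = true := by decide +kernel
theorem lift20_c43 : allPow 122760 (liftStep [lstep W7, lstep W7] 0) 11 88064 = true := by decide +kernel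
theorem lift20_c44 : allPow 122760 (liftStep [lstep W7, lstep W7] 0) 11 90112 = true := by decide +kernel
theorem lift20_c45 : allPow 122760 (liftStep [lstep W7, lstep W7] 0) 11 92160 = true := by decide +kernel
theorem lift20_c46 : allPow 122760 (liftStep [lstep W7, lstep W7] 0) 11 94208 = true := by decide +kernel
theorem lift20_c47 : allPow 122760 (liftStep [lstep W7, lstep W7] 0) 11 96256 = true := by decide +kernel
theorem lift20_c48 : allPow 122760 (liftStep [lstep W7, lstep W7] 0) 11 98304 = true := by decide +kernel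
theorem lift20_c49 : allPow 122760 (liftStep [lstep W7, lstep W7] 0) 11 100352 = true := by decide +kernel
theorem lift20_c50 : allPow 122760 (liftStep [lstep W7, lstep W7] 0) 11 102400 = true := by decide +kernel
theorem lift20_c51 : allPow 122760 (liftStep [lstep W7, lstep W7] 0) 11 104448 = true := by decide +kernel
theorem lift20_c52 : allPow 122760 (liftStep [lstep W7, lstep W7] 0) 11 106496 = true := by decide +kernel
theorem lift20_c53 : allPow 122760 (liftStep [lstep W7, lstep W7] 0) 11 108544 = true := by decide +kernel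
theorem lift20_c54 : allPow 122760 (liftStep [lstep W7, lstep W7] 0) 11 110592 = true := by decide +kernel
theorem lift20_c55 : allPow 122760 (liftStep [lstep W7, lstep W7] 0) 11 112640 = true := by decide +kernel
theorem lift20_c56 : allPow 122760 (liftStep [lstep W7, lstep W7] 0) 11 114688 = true := by decide +kernel
theorem lift20_c57 : allPow 122760 (liftStep [lstep W7, lstep W7] 0) 11 116736 = true := by decide +kernel
theorem lift20_c58 : allPow 122760 (liftStep [lstep W7, lstep W7] 0) 11 118784 = true := by decide +kernel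
theorem lift20_c59 : allPow 122760 (liftStep [lstep W7, lstep W7] 0) 11 120832 = true := by decide +kernel
theorem lift20 : allBelow 17 122760 (liftStep [lstep W7, lstep W7] 0) = true :=
  allBelow_of_upto (hi := 122880)
    (Upto.trans (mid := 61440) (Upto.trans (mid := 30720) (Upto.trans (mid := 14336) (Upto.trans (mid := 6144) (Upto.trans (mid := 2048) ((Upto.of_pow lift20_c0 (Nat.le_refl _)) : Upto _ _ 0 (0 + 2 ^ 11))
    (Upto.trans (mid := 4096) ((Upto.of_pow lift20_c1 (Nat.le_refl _)) : Upto _ _ 2048 (2048 + 2 ^ 11))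
    ((Upto.of_pow lift20_c2 (Nat.le_refl _)) : Upto _ _ 4096 (4096 + 2 ^ 11))))
    (Upto.trans (mid := 10240) (Upto.trans (mid := 8192) ((Upto.of_pow lift20_c3 (Nat.le_refl _)) : Upto _ _ 6144 (6144 + 2 ^ 11))
    ((Upto.of_pow lift20_c4 (Nat.le_refl _)) : Upto _ _ 8192 (8192 + 2 ^ 11)))
    (Upto.trans (mid := 12288) ((Upto.of_pow lift20_c5 (Nat.le_refl _)) : Upto _ _ 10240 (10240 + 2 ^ 11))
    ((Upto.of_pow lift20_c6 (Nat.le_refl _)) : Upto _ _ 12288 (12288 + 2 ^ 11)))))
    (Upto.trans (mid := 22528) (Upto.trans (mid := 18432) (Upto.trans (mid := 16384) ((Upto.of_pow lift20_c7 (Nat.le_refl _)) : Upto _ _ 14336 (14336 + 2 ^ 11))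
    ((Upto.of_pow lift20_c8 (Nat.le_refl _)) : Upto _ _ 16384 (16384 + 2 ^ 11)))
    (Upto.trans (mid := 20480) ((Upto.of_pow lift20_c9 (Nat.le_refl _)) : Upto _ _ 18432 (18432 + 2 ^ 11))
    ((Upto.of_pow lift20_c10 (Nat.le_refl _)) : Upto _ _ 20480 (20480 + 2 ^ 11))))
    (Upto.trans (mid := 26624) (Upto.trans (mid := 24576) ((Upto.of_pow lift20_c11 (Nat.le_refl _)) : Upto _ _ 22528 (22528 + 2 ^ 11))
    ((Upto.of_pow lift20_c12 (Nat.le_refl _)) : Upto _ _ 24576 (24576 + 2 ^ 11)))
    (Upto.trans (mid := 28672) ((Upto.of_pow lift20_c13 (Nat.le_refl _)) : Upto _ _ 26624 (26624 + 2 ^ 11))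
    ((Upto.of_pow lift20_c14 (Nat.le_refl _)) : Upto _ _ 28672 (28672 + 2 ^ 11))))))
    (Upto.trans (mid := 45056) (Upto.trans (mid := 36864) (Upto.trans (mid := 32768) ((Upto.of_pow lift20_c15 (Nat.le_refl _)) : Upto _ _ 30720 (30720 + 2 ^ 11))
    (Upto.trans (mid := 34816) ((Upto.of_pow lift20_c16 (Nat.le_refl _)) : Upto _ _ 32768 (32768 + 2 ^ 11))
    ((Upto.of_pow lift20_c17 (Nat.le_refl _)) : Upto _ _ 34816 (34816 + 2 ^ 11))))
    (Upto.trans (mid := 40960) (Upto.trans (mid := 38912) ((Upto.of_pow lift20_c18 (Nat.le_refl _)) : Upto _ _ 36864 (36864 + 2 ^ 11))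
    ((Upto.of_pow lift20_c19 (Nat.le_refl _)) : Upto _ _ 38912 (38912 + 2 ^ 11)))
    (Upto.trans (mid := 43008) ((Upto.of_pow lift20_c20 (Nat.le_refl _)) : Upto _ _ 40960 (40960 + 2 ^ 11))
    ((Upto.of_pow lift20_c21 (Nat.le_refl _)) : Upto _ _ 43008 (43008 + 2 ^ 11)))))
    (Upto.trans (mid := 53248) (Upto.trans (mid := 49152) (Upto.trans (mid := 47104) ((Upto.of_pow lift20_c22 (Nat.le_refl _)) : Upto _ _ 45056 (45056 + 2 ^ 11))
    ((Upto.of_pow lift20_c23 (Nat.le_refl _)) : Upto _ _ 47104 (47104 + 2 ^ 11)))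
    (Upto.trans (mid := 51200) ((Upto.of_pow lift20_c24 (Nat.le_refl _)) : Upto _ _ 49152 (49152 + 2 ^ 11))
    ((Upto.of_pow lift20_c25 (Nat.le_refl _)) : Upto _ _ 51200 (51200 + 2 ^ 11))))
    (Upto.trans (mid := 57344) (Upto.trans (mid := 55296) ((Upto.of_pow lift20_c26 (Nat.le_refl _)) : Upto _ _ 53248 (53248 + 2 ^ 11))
    ((Upto.of_pow lift20_c27 (Nat.le_refl _)) : Upto _ _ 55296 (55296 + 2 ^ 11)))
    (Upto.trans (mid := 59392) ((Upto.of_pow lift20_c28 (Nat.le_refl _)) : Upto _ _ 57344 (57344 + 2 ^ 11))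
    ((Upto.of_pow lift20_c29 (Nat.le_refl _)) : Upto _ _ 59392 (59392 + 2 ^ 11)))))))
    (Upto.trans (mid := 92160) (Upto.trans (mid := 75776) (Upto.trans (mid := 67584) (Upto.trans (mid := 63488) ((Upto.of_pow lift20_c30 (Nat.le_refl _)) : Upto _ _ 61440 (61440 + 2 ^ 11))
    (Upto.trans (mid := 65536) ((Upto.of_pow lift20_c31 (Nat.le_refl _)) : Upto _ _ 63488 (63488 + 2 ^ 11))
    ((Upto.of_pow lift20_c32 (Nat.le_refl _)) : Upto _ _ 65536 (65536 + 2 ^ 11))))
    (Upto.trans (mid := 71680) (Upto.trans (mid := 69632) ((Upto.of_pow lift20_c33 (Nat.le_refl _)) : Upto _ _ 67584 (67584 + 2 ^ 11))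
    ((Upto.of_pow lift20_c34 (Nat.le_refl _)) : Upto _ _ 69632 (69632 + 2 ^ 11)))
    (Upto.trans (mid := 73728) ((Upto.of_pow lift20_c35 (Nat.le_refl _)) : Upto _ _ 71680 (71680 + 2 ^ 11))
    ((Upto.of_pow lift20_c36 (Nat.le_refl _)) : Upto _ _ 73728 (73728 + 2 ^ 11)))))
    (Upto.trans (mid := 83968) (Upto.trans (mid := 79872) (Upto.trans (mid := 77824) ((Upto.of_pow lift20_c37 (Nat.le_refl _)) : Upto _ _ 75776 (75776 + 2 ^ 11))
    ((Upto.of_pow lift20_c38 (Nat.le_refl _)) : Upto _ _ 77824 (77824 + 2 ^ 11)))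
    (Upto.trans (mid := 81920) ((Upto.of_pow lift20_c39 (Nat.le_refl _)) : Upto _ _ 79872 (79872 + 2 ^ 11))
    ((Upto.of_pow lift20_c40 (Nat.le_refl _)) : Upto _ _ 81920 (81920 + 2 ^ 11))))
    (Upto.trans (mid := 88064) (Upto.trans (mid := 86016) ((Upto.of_pow lift20_c41 (Nat.le_refl _)) : Upto _ _ 83968 (83968 + 2 ^ 11))
    ((Upto.of_pow lift20_c42 (Nat.le_refl _)) : Upto _ _ 86016 (86016 + 2 ^ 11)))
    (Upto.trans (mid := 90112) ((Upto.of_pow lift20_c43 (Nat.le_refl _)) : Upto _ _ 88064 (88064 + 2 ^ 11))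
    ((Upto.of_pow lift20_c44 (Nat.le_refl _)) : Upto _ _ 90112 (90112 + 2 ^ 11))))))
    (Upto.trans (mid := 106496) (Upto.trans (mid := 98304) (Upto.trans (mid := 94208) ((Upto.of_pow lift20_c45 (Nat.le_refl _)) : Upto _ _ 92160 (92160 + 2 ^ 11))
    (Upto.trans (mid := 96256) ((Upto.of_pow lift20_c46 (Nat.le_refl _)) : Upto _ _ 94208 (94208 + 2 ^ 11))
    ((Upto.of_pow lift20_c47 (Nat.le_refl _)) : Upto _ _ 96256 (96256 + 2 ^ 11))))
    (Upto.trans (mid := 102400) (Upto.trans (mid := 100352) ((Upto.of_pow lift20_c48 (Nat.le_refl _)) : Upto _ _ 98304 (98304 + 2 ^ 11))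
    ((Upto.of_pow lift20_c49 (Nat.le_refl _)) : Upto _ _ 100352 (100352 + 2 ^ 11)))
    (Upto.trans (mid := 104448) ((Upto.of_pow lift20_c50 (Nat.le_refl _)) : Upto _ _ 102400 (102400 + 2 ^ 11))
    ((Upto.of_pow lift20_c51 (Nat.le_refl _)) : Upto _ _ 104448 (104448 + 2 ^ 11)))))
    (Upto.trans (mid := 114688) (Upto.trans (mid := 110592) (Upto.trans (mid := 108544) ((Upto.of_pow lift20_c52 (Nat.le_refl _)) : Upto _ _ 106496 (106496 + 2 ^ 11))
    ((Upto.of_pow lift20_c53 (Nat.le_refl _)) : Upto _ _ 108544 (108544 + 2 ^ 11)))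
    (Upto.trans (mid := 112640) ((Upto.of_pow lift20_c54 (Nat.le_refl _)) : Upto _ _ 110592 (110592 + 2 ^ 11))
    ((Upto.of_pow lift20_c55 (Nat.le_refl _)) : Upto _ _ 112640 (112640 + 2 ^ 11))))
    (Upto.trans (mid := 118784) (Upto.trans (mid := 116736) ((Upto.of_pow lift20_c56 (Nat.le_refl _)) : Upto _ _ 114688 (114688 + 2 ^ 11))
    ((Upto.of_pow lift20_c57 (Nat.le_refl _)) : Upto _ _ 116736 (116736 + 2 ^ 11)))
    (Upto.trans (mid := 120832) ((Upto.of_pow lift20_c58 (Nat.le_refl _)) : Upto _ _ 118784 (118784 + 2 ^ 11))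
    ((Upto.of_pow lift20_c59 (Nat.le_refl _)) : Upto _ _ 120832 (120832 + 2 ^ 11))))))))
    (by decide) (by decide)

end CfsgLib.ONMult
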