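import Cfsg.Agent.Lib.ONMult.CoverChk1
import Cfsg.Agent.Lib.ONMult.CoverChk2
import Cfsg.Agent.Lib.ONMult.CoverChk3
import Cfsg.Agent.Lib.ONMult.CoverChk4
import Cfsg.Agent.Lib.ONMult.CoverChk5
import Cfsg.Agent.Lib.ONMult.CoverChk6
import Cfsg.Agent.Lib.ONMult.CoverChk7
import Cfsg.Agent.Lib.ONMult.CoverChk8
import Cfsg.Agent.Lib.SporRecognition.Cert.ON122760.Tables
import Cfsg.Agent.Lib.SporRecognition.CosetCert.Cox
import Cfsg.Prelude.Def_KGroupFacts

/-!
The triple cover of the presented O'Nan group: a presentation with one more central generator of order three,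
a permutation representation in which that generator acts non-trivially, and perfectness.
-/

set_option autoImplicit false
set_option maxRecDepth 20000
set_option linter.all false

namespace CfsgLib.ONMult

open CfsgLib.SporRecognition.CosetCert CfsgLib.SporRecognition.Cert

/-- The exponents of the central generator in the relators. -/
def kW : List Nat := [0, 0, 0, 0, 0, 0, 0, 0, 0, 0, 0, 0, 0, 0, 0, 0, 0, 0, 0, 0, 0, 0, 0, 0, 0, 2, 2, 2]

/-- The relators of the cover. -/
def coverRels : Set (FreeGroup (Option Cfsg.Spor.ON.Gen)) :=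
  {FreeGroup.of none ^ 3} ∪
    Set.range (fun x => FreeGroup.of none * FreeGroup.of (some x) * (FreeGroup.of none)⁻¹ *
      (FreeGroup.of (some x))⁻¹) ∪
    {r | ∃ p ∈ ON122760.relW.zip kW, r = FreeGroup.map some (FreeGroup.mk p.1) * (FreeGroup.of none ^ p.2)⁻¹}

/-- The cover. -/
abbrev Cover : Type := PresentedGroup coverRels

/-- The central generator. -/
def zC : Cover := PresentedGroup.of none

/-- The other generators. -/
def xC (x : Cfsg.Spor.ON.Gen) : Cover := PresentedGroup.of (some x)

theorem liftOK : LiftOK lW 122760 := by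
  intro a b u hu
  cases a <;> cases b
  · exact allBelow_spec pair1 u hu
  · exact allBelow_spec pair0 u hu
  · exact allBelow_spec pair2 u hu
  · exact allBelow_spec pair2 u hu
  · exact allBelow_spec pair3 u hu
  · exact allBelow_spec pair3 u hu
  · exact allBelow_spec pair4 u hu
  · exact allBelow_spec pair4 u hu
  · exact allBelow_spec pair5 u hu
  · exact allBelow_spec pair5 u hu
  · exact allBelow_spec pair6 u hu
  · exact allBelow_spec pair6 u hu
  · exact allBelow_spec pair7 u hu
  · exact allBelow_spec pair7 u hu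

theorem lift_relW : ∀ p ∈ ON122760.relW.zip kW, evalW (liftPerm liftOK) p.1 = shiftPerm 122760 ^ p.2 := by
  have h : ∀ i, (hi : i < (ON122760.relW.zip kW).length) →
      evalW (liftPerm liftOK) ((ON122760.relW.zip kW)[i]).1 = shiftPerm 122760 ^ ((ON122760.relW.zip kW)[i]).2 := by
    intro i hi
    have hi' : i < 28 := hi
    interval_cases i
    · exact evalW_liftPerm_eq liftOK _ _ rfl (fun u hu => allBelow_spec lift0 u hu)
    · exact evalW_liftPerm_eq liftOK _ _ rfl (fun u hu => allBelow_spec lift1 u hu)
    · exact evalW_liftPerm_eq liftOK _ _ rfl (fun u hu => allBelow_spec lift2 u hu)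
    · exact evalW_liftPerm_eq liftOK _ _ rfl (fun u hu => allBelow_spec lift3 u hu)
    · exact evalW_liftPerm_eq liftOK _ _ rfl (fun u hu => allBelow_spec lift4 u hu)
    · exact evalW_liftPerm_eq liftOK _ _ rfl (fun u hu => allBelow_spec lift5 u hu)
    · exact evalW_liftPerm_eq liftOK _ _ rfl (fun u hu => allBelow_spec lift6 u hu)
    · exact evalW_liftPerm_eq liftOK _ _ rfl (fun u hu => allBelow_spec lift7 u hu)
    · exact evalW_liftPerm_eq liftOK _ _ rfl (fun u hu => allBelow_spec lift8 u hu)
    · exact evalW_liftPerm_eq liftOK _ _ rfl (fun u hu => allBelow_spec lift9 u hu)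
    · exact evalW_liftPerm_eq liftOK _ _ rfl (fun u hu => allBelow_spec lift10 u hu)
    · exact evalW_liftPerm_eq liftOK _ _ rfl (fun u hu => allBelow_spec lift11 u hu)
    · exact evalW_liftPerm_eq liftOK _ _ rfl (fun u hu => allBelow_spec lift12 u hu)
    · exact evalW_liftPerm_eq liftOK _ _ rfl (fun u hu => allBelow_spec lift13 u hu)
    · exact evalW_liftPerm_eq liftOK _ _ rfl (fun u hu => allBelow_spec lift14 u hu)
    · exact evalW_liftPerm_eq liftOK _ _ rfl (fun u hu => allBelow_spec lift15 u hu)
    · exact evalW_liftPerm_eq liftOK _ _ rfl (fun u hu => allBelow_spec lift16 u hu)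
    · exact evalW_liftPerm_eq liftOK _ _ rfl (fun u hu => allBelow_spec lift17 u hu)
    · exact evalW_liftPerm_eq liftOK _ _ rfl (fun u hu => allBelow_spec lift18 u hu)
    · exact evalW_liftPerm_eq liftOK _ _ rfl (fun u hu => allBelow_spec lift19 u hu)
    · exact evalW_liftPerm_eq liftOK _ _ rfl (fun u hu => allBelow_spec lift20 u hu)
    · exact evalW_liftPerm_eq liftOK _ _ rfl (fun u hu => allBelow_spec lift21 u hu)
    · exact evalW_liftPerm_eq liftOK _ _ rfl (fun u hu => allBelow_spec lift22 u hu)
    · exact evalW_liftPerm_eq liftOK _ _ rfl (fun u hu => allBelow_spec lift23 u hu)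
    · exact evalW_liftPerm_eq liftOK _ _ rfl (fun u hu => allBelow_spec lift24 u hu)
    · exact evalW_liftPerm_eq liftOK _ _ rfl (fun u hu => allBelow_spec lift25 u hu)
    · exact evalW_liftPerm_eq liftOK _ _ rfl (fun u hu => allBelow_spec lift26 u hu)
    · exact evalW_liftPerm_eq liftOK _ _ rfl (fun u hu => allBelow_spec lift27 u hu)
  intro p hp
  obtain ⟨i, hi, rfl⟩ := List.getElem_of_mem hp
  exact h i hi

/-- The representation on `122760 * 3` points. -/
noncomputable def coverHom : Cover →* Equiv.Perm (Fin 122760 × ZMod 3) :=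
  PresentedGroup.toGroup (f := fun o => o.elim (shiftPerm 122760) (liftPerm liftOK)) (by
    rintro r ((rfl | ⟨x, rfl⟩) | ⟨p, hp, rfl⟩)
    · rw [map_pow, FreeGroup.lift_apply_of]
      refine Equiv.ext fun q => ?_
      rw [Option.elim_none, shiftPerm_pow, Equiv.Perm.one_apply, show ((3 : Nat) : ZMod 3) = 0 from rfl, add_zero]
    · simp only [map_mul, map_inv, FreeGroup.lift_apply_of, Option.elim_none, Option.elim_some]
      rw [liftPerm_comm_shift]
      group
    · rw [map_mul, map_inv, map_pow, FreeGroup.lift_apply_of, Option.elim_none, mul_inv_eq_one,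
        ← lift_relW p hp, evalW, ← MonoidHom.comp_apply]
      congr 1
      apply FreeGroup.ext_hom
      intro x
      simp)

theorem zC_ne_one : zC ≠ 1 := by
  intro h
  have := congrArg (fun f : Equiv.Perm (Fin 122760 × ZMod 3) => (f (⟨0, by decide⟩, 0)).2)
    (congrArg coverHom h)
  simp [zC, coverHom, shiftPerm] at this

theorem zC_pow_three : zC ^ 3 = 1 := by
  have := PresentedGroup.one_of_mem (rels := coverRels) (x := FreeGroup.of none ^ 3) (Or.inl (Or.inl rfl))
  simpa [zC, PresentedGroup.of] using this

theorem orderOf_zC : orderOf zC = 3 :=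
  orderOf_eq_prime zC_pow_three zC_ne_one

theorem zC_comm (x : Cfsg.Spor.ON.Gen) : zC * xC x = xC x * zC := by
  have := PresentedGroup.one_of_mem (rels := coverRels)
    (x := FreeGroup.of none * FreeGroup.of (some x) * (FreeGroup.of none)⁻¹ * (FreeGroup.of (some x))⁻¹)
    (Or.inl (Or.inr ⟨x, rfl⟩))
  simp only [map_mul, map_inv] at this
  rw [mul_inv_eq_one, mul_inv_eq_iff_eq_mul] at this
  exact this

theorem zC_central : zC ∈ Subgroup.center Cover := by
  rw [Subgroup.mem_center_iff]
  intro g
  have hg : g ∈ Subgroup.centralizer {zC} := by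
    have htop : Subgroup.closure (Set.range (PresentedGroup.of (rels := coverRels))) = ⊤ :=
      PresentedGroup.closure_range_of coverRels
    have : (⊤ : Subgroup Cover) ≤ Subgroup.centralizer {zC} := by
      rw [← htop, Subgroup.closure_le]
      rintro _ ⟨o, rfl⟩
      rw [SetLike.mem_coe, Subgroup.mem_centralizer_singleton_iff]
      cases o with
      | none => rfl
      | some x => exact (zC_comm x).symm
    exact this (Subgroup.mem_top g)
  exact Subgroup.mem_centralizer_singleton_iff.1 hg

theorem evalW_xC : ∀ p ∈ ON122760.relW.zip kW, evalW xC p.1 = zC ^ p.2 := by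
  intro p hp
  have := PresentedGroup.one_of_mem (rels := coverRels)
    (x := FreeGroup.map some (FreeGroup.mk p.1) * (FreeGroup.of none ^ p.2)⁻¹) (Or.inr ⟨p, hp, rfl⟩)
  rw [map_mul, map_inv, map_pow, mul_inv_eq_one] at this
  rw [show zC ^ p.2 = PresentedGroup.mk coverRels (FreeGroup.of none) ^ p.2 from rfl, ← this, evalW,
    ← MonoidHom.comp_apply]
  congr 1
  ext x
  simp [xC, PresentedGroup.of]

/-- The presented O'Nan group. -/
abbrev onRels : Set (FreeGroup Cfsg.Spor.ON.Gen) :=
  Cfsg.Spor.coxRelators Cfsg.Spor.ON.edges ∪ {r | r ∈ Cfsg.Spor.ON.extra}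

theorem relW_one : ∀ w ∈ ON122760.relW, evalW (PresentedGroup.of (rels := onRels)) w = 1 := by
  have h : ON122760.relW = coxW Cfsg.Spor.ON.edges ON122760.pairs ON122760.extraW := by decide +kernel
  rw [h]
  exact coxW_eq_one (by decide +kernel) rfl

/-- The covering map. -/
noncomputable def coverMap : Cover →* Cfsg.Spor.ON :=
  PresentedGroup.toGroup (f := fun o => o.elim 1 (PresentedGroup.of (rels := onRels))) (by
    rintro r ((rfl | ⟨x, rfl⟩) | ⟨p, hp, rfl⟩)
    · simp
    · simp
    · rw [map_mul, map_inv, map_pow, FreeGroup.lift_apply_of, Option.elim_none, one_pow, inv_one, mul_one,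
        ← relW_one p.1 (List.of_mem_zip hp).1, evalW, ← MonoidHom.comp_apply]
      congr 1
      ext x
      simp)

theorem coverMap_surjective : Function.Surjective coverMap := by
  rw [← MonoidHom.range_eq_top, eq_top_iff, ← PresentedGroup.closure_range_of, Subgroup.closure_le]
  rintro _ ⟨x, rfl⟩
  exact ⟨xC x, by simp [coverMap, xC]⟩

instance zC_normal : (Subgroup.zpowers zC).Normal :=
  ⟨fun n hn g => by
    have : n ∈ Subgroup.center Cover := (Subgroup.zpowers_le.2 zC_central) hn
    rw [Subgroup.mem_center_iff.1 this g]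
    simpa using hn⟩

theorem coverMap_ker : coverMap.ker = Subgroup.zpowers zC := by
  refine le_antisymm ?_ (Subgroup.zpowers_le.2 (by simp [MonoidHom.mem_ker, coverMap, zC]))
  have hrel : ∀ r ∈ onRels, FreeGroup.lift (fun x => QuotientGroup.mk' (Subgroup.zpowers zC) (xC x)) r = 1 := by
    apply lift_eq_one_of_coxW (pairs := ON122760.pairs) (extraW := ON122760.extraW) (by decide +kernel) rfl
    intro w hw
    have h : ON122760.relW = coxW Cfsg.Spor.ON.edges ON122760.pairs ON122760.extraW := by decide +kernel
    rw [← h] at hw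
    obtain ⟨i, hi, rfl⟩ := List.getElem_of_mem hw
    have hi2 : i < (ON122760.relW.zip kW).length := hi
    have hm := evalW_xC _ (List.getElem_mem hi2)
    rw [List.getElem_zip] at hm
    have hcomp : FreeGroup.lift (fun x => QuotientGroup.mk' (Subgroup.zpowers zC) (xC x)) =
        (QuotientGroup.mk' (Subgroup.zpowers zC)).comp (FreeGroup.lift xC) := by
      ext x
      simp
    rw [evalW, hcomp, MonoidHom.comp_apply]
    rw [evalW] at hm
    rw [hm, QuotientGroup.mk'_apply, QuotientGroup.eq_one_iff]
    exact pow_mem (Subgroup.mem_zpowers zC) _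
  let θ : Cfsg.Spor.ON →* Cover ⧸ Subgroup.zpowers zC := PresentedGroup.toGroup hrel
  have hθ : θ.comp coverMap = QuotientGroup.mk' (Subgroup.zpowers zC) := by
    apply PresentedGroup.ext
    intro o
    cases o with
    | none =>
      rw [MonoidHom.comp_apply, show coverMap (PresentedGroup.of none) = 1 from by simp [coverMap], map_one,
        QuotientGroup.mk'_apply, eq_comm, QuotientGroup.eq_one_iff]
      exact Subgroup.mem_zpowers zC
    | some x =>
      rw [MonoidHom.comp_apply, show coverMap (PresentedGroup.of (some x)) = PresentedGroup.of x from by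
        simp [coverMap]]
      simp [θ, xC]
  intro e he
  rw [MonoidHom.mem_ker] at he
  have := DFunLike.congr_fun hθ e
  rw [MonoidHom.comp_apply, he, map_one, QuotientGroup.mk'_apply, eq_comm, QuotientGroup.eq_one_iff] at this
  exact this

theorem coverMap_ker_card : Nat.card coverMap.ker = 3 := by
  rw [coverMap_ker, Nat.card_zpowers, orderOf_zC]

/-- Any homomorphism of the cover to a commutative group is trivial. -/
theorem cover_hom_comm {A : Type} [CommGroup A] (f : Cover →* A) : f = 1 := by
  have hrel : ∀ p ∈ ON122760.relW.zip kW, evalW (fun x => f (xC x)) p.1 = f zC ^ p.2 := by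
    intro p hp
    rw [← map_pow, ← evalW_xC p hp, evalW, evalW, ← MonoidHom.comp_apply f]
    congr 1
    ext x
    simp
  have hz : f zC ^ 3 = 1 := by rw [← map_pow, zC_pow_three, map_one]
  let v : Cfsg.Spor.ON.Gen → A := fun x => f (xC x)
  have r : ∀ i, (hi : i < (ON122760.relW.zip kW).length) →
      (((ON122760.relW.zip kW)[i]).1.map fun x => cond x.2 (v x.1) (v x.1)⁻¹).prod =
        f zC ^ ((ON122760.relW.zip kW)[i]).2 := fun i hi => by
    rw [← evalW_eq_prod]
    exact hrel _ (List.getElem_mem hi)
  have ha := r 0 (by decide)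
  have hab := r 1 (by decide)
  have hb := r 6 (by decide)
  have hbc := r 7 (by decide)
  have hc := r 11 (by decide)
  have hd := r 15 (by decide)
  have hde := r 16 (by decide)
  have he := r 18 (by decide)
  have hef := r 19 (by decide)
  have hf := r 20 (by decide)
  have hag := r 21 (by decide)
  have hcd := r 22 (by decide)
  have h5 := r 25 (by decide)
  have hgb := r 26 (by decide)
  have hge := r 27 (by decide)
  simp only [ON122760.relW, kW, List.zip_cons_cons, List.getElem_cons_succ, List.getElem_cons_zero,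
    List.map_cons, List.map_nil, List.prod_cons, List.prod_nil, cond_true, cond_false, pow_zero, mul_one] at *
  have sq : ∀ y : A, y * y = 1 → y⁻¹ = y := fun y hy => inv_eq_of_mul_eq_one_right hy
  have cube : ∀ x y : A, x * x = 1 → y * y = 1 → x * (y * (x * (y * (x * y)))) = 1 → x = y := by
    intro x y hx hy h
    rw [show x * (y * (x * (y * (x * y)))) = (x * x) * (y * y) * (x * y) by ac_rfl, hx, hy, one_mul, one_mul] at h
    rw [← sq y hy, eq_inv_iff_mul_eq_one]
    exact h
  have eab := cube _ _ ha hb hab
  have ebc := cube _ _ hb hc hbc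
  have ede := cube _ _ hd he hde
  have eef := cube _ _ he hf hef
  rw [sq _ hd, sq _ hc] at hcd
  have eaf : v .a = v .f := by
    rw [show v .a * (v .f * (v .d * (v .c * (v .d * (v .c * (v .d * (v .c * (v .d * v .c)))))))) =
      (v .a * v .f) * ((v .d * v .d) * (v .d * v .d) * ((v .c * v .c) * (v .c * v .c))) by ac_rfl,
      hd, hc] at hcd
    simp only [mul_one] at hcd
    rw [← sq _ hf, eq_inv_iff_mul_eq_one]
    exact hcd
  rw [← eef, ← ede] at eaf
  have eag : v .g * v .g = 1 := by
    rw [← eef, ← ede, ← eaf, show v .a * (v .a * ((v .g)⁻¹ * (v .g)⁻¹)) =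
      (v .a * v .a) * (v .g * v .g)⁻¹ by rw [mul_inv]; ac_rfl, ha, one_mul, inv_eq_one] at hag
    exact hag
  simp only [← ebc, ← eab, ← eef, ← ede, ← eaf] at h5 hgb hge
  simp only [sq _ ha] at hgb hge
  have hva : v .a = f zC ^ 2 := by
    rw [← hgb]
    calc v .a = (v .g * v .g) * (v .g * v .g) * ((v .a * v .a) * (v .a * v .a) * (v .a * v .a)) * v .a := by
          rw [eag, ha]; simp
      _ = _ := by ac_rfl
  have hz1 : f zC = 1 := by
    have h4 : f zC ^ 4 = 1 := by
      rw [show (4 : Nat) = 2 + 2 from rfl, pow_add, ← hva]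
      exact ha
    rw [pow_succ, hz, one_mul] at h4
    exact h4
  rw [hz1, one_pow] at hva
  simp only [hva, hz1, one_pow, one_mul] at h5
  have hvg : v .g = 1 := by
    rw [show v .g = (v .g * v .g) * (v .g * v .g) * v .g by rw [eag, one_mul, one_mul]]
    simpa [mul_assoc] using h5
  apply PresentedGroup.ext
  intro o
  cases o with
  | none => exact hz1
  | some x =>
    cases x
    · exact hvg
    · exact hva
    · exact (eab ▸ hva : v .b = 1)
    · exact ((eab.trans ebc) ▸ hva : v .c = 1)
    · exact (eaf ▸ hva : v .d = 1)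
    · exact ((eaf.trans ede) ▸ hva : v .e = 1)
    · exact (((eaf.trans ede).trans eef) ▸ hva : v .f = 1)

theorem cover_commutator : commutator Cover = ⊤ := by
  rw [← Abelianization.ker_of, cover_hom_comm Abelianization.of, MonoidHom.ker_one]

theorem isStem_coverMap : Cfsg.IsStemExtension coverMap :=
  ⟨coverMap_surjective, coverMap_ker ▸ Subgroup.zpowers_le.2 zC_central, by rw [cover_commutator]; exact le_top⟩

theorem cover_finite [Finite Cfsg.Spor.ON] : Finite Cover := by
  haveI : Finite coverMap.ker := Nat.finite_of_card_ne_zero (by rw [coverMap_ker_card]; decide)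
  haveI : Finite coverMap.range := inferInstance
  haveI : Finite (Cover ⧸ coverMap.ker) :=
    Finite.of_equiv _ (QuotientGroup.quotientKerEquivRange coverMap).symm.toEquiv
  exact Finite.of_subgroup_quotient coverMap.ker

/-- The cover, packaged. -/
theorem exists_cover [Finite Cfsg.Spor.ON] :
    ∃ (Γ : Type) (_ : Group Γ) (_ : Finite Γ) (σ : Γ →* Cfsg.Spor.ON),
      Cfsg.IsStemExtension σ ∧ Nonempty (σ.ker ≃* Multiplicative (ZMod 3)) := by
  haveI := cover_finite
  haveI : IsCyclic coverMap.ker := coverMap_ker ▸ inferInstance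
  refine ⟨Cover, inferInstance, inferInstance, coverMap, isStem_coverMap, ⟨?_⟩⟩
  exact (zmodCyclicMulEquiv inferInstance).symm.trans
    (AddEquiv.toMultiplicative (ZMod.ringEquivCongr coverMap_ker_card).toAddEquiv)

end CfsgLib.ONMult
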