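import Cfsg.Agent.Lib.ONMult.CoverData

/-! Generated: checks for the triple cover. -/

set_option autoImplicit false
set_option maxRecDepth 20000
set_option linter.all false
set_option Elab.async false

namespace CfsgLib.ONMult

open CfsgLib.SporRecognition.CosetCert

theorem lift25_c0 : allPow 122760 (liftStep [lstep W0, lstep W5, lstep W4, lstep W3, lstep W0, lstep W5, lstep W4, lstep W3, lstep W0, lstep W5, lstep W4, lstep W3, lstep W0, lstep W5, lstep W4, lstep W3, lstep W0, lstep W5, lstep W4, lstep W3] 2) 11 0 = true := by decide +kernel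
theorem lift25_c1 : allPow 122760 (liftStep [lstep W0, lstep W5, lstep W4, lstep W3, lstep W0, lstep W5, lstep W4, lstep W3, lstep W0, lstep W5, lstep W4, lstep W3, lstep W0, lstep W5, lstep W4, lstep W3, lstep W0, lstep W5, lstep W4, lstep W3] 2) 11 2048 = true := by decide +kernel
theorem lift25_c2 : allPow 122760 (liftStep [lstep W0, lstep W5, lstep W4, lstep W3, lstep W0, lstep W5, lstep W4, lstep W3, lstep W0, lstep W5, lstep W4, lstep W3, lstep W0, lstep W5, lstep W4, lstep W3, lstep W0, lstep W5, lstep W4, lstep W3] 2) 11 4096 = true := by decide +kernel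
theorem lift25_c3 : allPow 122760 (liftStep [lstep W0, lstep W5, lstep W4, lstep W3, lstep W0, lstep W5, lstep W4, lstep W3, lstep W0, lstep W5, lstep W4, lstep W3, lstep W0, lstep W5, lstep W4, lstep W3, lstep W0, lstep W5, lstep W4, lstep W3] 2) 11 6144 = true := by decide +kernel
theorem lift25_c4 : allPow 122760 (liftStep [lstep W0, lstep W5, lstep W4, lstep W3, lstep W0, lstep W5, lstep W4, lstep W3, lstep W0, lstep W5, lstep W4, lstep W3, lstep W0, lstep W5, lstep W4, lstep W3, lstep W0, lstep W5, lstep W4, lstep W3] 2) 11 8192 = true := by decide +kernel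
theorem lift25_c5 : allPow 122760 (liftStep [lstep W0, lstep W5, lstep W4, lstep W3, lstep W0, lstep W5, lstep W4, lstep W3, lstep W0, lstep W5, lstep W4, lstep W3, lstep W0, lstep W5, lstep W4, lstep W3, lstep W0, lstep W5, lstep W4, lstep W3] 2) 11 10240 = true := by decide +kernel
theorem lift25_c6 : allPow 122760 (liftStep [lstep W0, lstep W5, lstep W4, lstep W3, lstep W0, lstep W5, lstep W4, lstep W3, lstep W0, lstep W5, lstep W4, lstep W3, lstep W0, lstep W5, lstep W4, lstep W3, lstep W0, lstep W5, lstep W4, lstep W3] 2) 11 12288 = true := by decide +kernel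
theorem lift25_c7 : allPow 122760 (liftStep [lstep W0, lstep W5, lstep W4, lstep W3, lstep W0, lstep W5, lstep W4, lstep W3, lstep W0, lstep W5, lstep W4, lstep W3, lstep W0, lstep W5, lstep W4, lstep W3, lstep W0, lstep W5, lstep W4, lstep W3] 2) 11 14336 = true := by decide +kernel
theorem lift25_c8 : allPow 122760 (liftStep [lstep W0, lstep W5, lstep W4, lstep W3, lstep W0, lstep W5, lstep W4, lstep W3, lstep W0, lstep W5, lstep W4, lstep W3, lstep W0, lstep W5, lstep W4, lstep W3, lstep W0, lstep W5, lstep W4, lstep W3] 2) 11 16384 = true := by decide +kernel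
theorem lift25_c9 : allPow 122760 (liftStep [lstep W0, lstep W5, lstep W4, lstep W3, lstep W0, lstep W5, lstep W4, lstep W3, lstep W0, lstep W5, lstep W4, lstep W3, lstep W0, lstep W5, lstep W4, lstep W3, lstep W0, lstep W5, lstep W4, lstep W3] 2) 11 18432 = true := by decide +kernel
theorem lift25_c10 : allPow 122760 (liftStep [lstep W0, lstep W5, lstep W4, lstep W3, lstep W0, lstep W5, lstep W4, lstep W3, lstep W0, lstep W5, lstep W4, lstep W3, lstep W0, lstep W5, lstep W4, lstep W3, lstep W0, lstep W5, lstep W4, lstep W3] 2) 11 20480 = true := by decide +kernel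
theorem lift25_c11 : allPow 122760 (liftStep [lstep W0, lstep W5, lstep W4, lstep W3, lstep W0, lstep W5, lstep W4, lstep W3, lstep W0, lstep W5, lstep W4, lstep W3, lstep W0, lstep W5, lstep W4, lstep W3, lstep W0, lstep W5, lstep W4, lstep W3] 2) 11 22528 = true := by decide +kernel
theorem lift25_c12 : allPow 122760 (liftStep [lstep W0, lstep W5, lstep W4, lstep W3, lstep W0, lstep W5, lstep W4, lstep W3, lstep W0, lstep W5, lstep W4, lstep W3, lstep W0, lstep W5, lstep W4, lstep W3, lstep W0, lstep W5, lstep W4, lstep W3] 2) 11 24576 = true := by decide +kernel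
theorem lift25_c13 : allPow 122760 (liftStep [lstep W0, lstep W5, lstep W4, lstep W3, lstep W0, lstep W5, lstep W4, lstep W3, lstep W0, lstep W5, lstep W4, lstep W3, lstep W0, lstep W5, lstep W4, lstep W3, lstep W0, lstep W5, lstep W4, lstep W3] 2) 11 26624 = true := by decide +kernel
theorem lift25_c14 : allPow 122760 (liftStep [lstep W0, lstep W5, lstep W4, lstep W3, lstep W0, lstep W5, lstep W4, lstep W3, lstep W0, lstep W5, lstep W4, lstep W3, lstep W0, lstep W5, lstep W4, lstep W3, lstep W0, lstep W5, lstep W4, lstep W3] 2) 11 28672 = true := by decide +kernel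
theorem lift25_c15 : allPow 122760 (liftStep [lstep W0, lstep W5, lstep W4, lstep W3, lstep W0, lstep W5, lstep W4, lstep W3, lstep W0, lstep W5, lstep W4, lstep W3, lstep W0, lstep W5, lstep W4, lstep W3, lstep W0, lstep W5, lstep W4, lstep W3] 2) 11 30720 = true := by decide +kernel
theorem lift25_c16 : allPow 122760 (liftStep [lstep W0, lstep W5, lstep W4, lstep W3, lstep W0, lstep W5, lstep W4, lstep W3, lstep W0, lstep W5, lstep W4, lstep W3, lstep W0, lstep W5, lstep W4, lstep W3, lstep W0, lstep W5, lstep W4, lstep W3] 2) 11 32768 = true := by decide +kernel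
theorem lift25_c17 : allPow 122760 (liftStep [lstep W0, lstep W5, lstep W4, lstep W3, lstep W0, lstep W5, lstep W4, lstep W3, lstep W0, lstep W5, lstep W4, lstep W3, lstep W0, lstep W5, lstep W4, lstep W3, lstep W0, lstep W5, lstep W4, lstep W3] 2) 11 34816 = true := by decide +kernel
theorem lift25_c18 : allPow 122760 (liftStep [lstep W0, lstep W5, lstep W4, lstep W3, lstep W0, lstep W5, lstep W4, lstep W3, lstep W0, lstep W5, lstep W4, lstep W3, lstep W0, lstep W5, lstep W4, lstep W3, lstep W0, lstep W5, lstep W4, lstep W3] 2) 11 36864 = true := by decide +kernel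
theorem lift25_c19 : allPow 122760 (liftStep [lstep W0, lstep W5, lstep W4, lstep W3, lstep W0, lstep W5, lstep W4, lstep W3, lstep W0, lstep W5, lstep W4, lstep W3, lstep W0, lstep W5, lstep W4, lstep W3, lstep W0, lstep W5, lstep W4, lstep W3] 2) 11 38912 = true := by decide +kernel
theorem lift25_c20 : allPow 122760 (liftStep [lstep W0, lstep W5, lstep W4, lstep W3, lstep W0, lstep W5, lstep W4, lstep W3, lstep W0, lstep W5, lstep W4, lstep W3, lstep W0, lstep W5, lstep W4, lstep W3, lstep W0, lstep W5, lstep W4, lstep W3] 2) 11 40960 = true := by decide +kernel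
theorem lift25_c21 : allPow 122760 (liftStep [lstep W0, lstep W5, lstep W4, lstep W3, lstep W0, lstep W5, lstep W4, lstep W3, lstep W0, lstep W5, lstep W4, lstep W3, lstep W0, lstep W5, lstep W4, lstep W3, lstep W0, lstep W5, lstep W4, lstep W3] 2) 11 43008 = true := by decide +kernel
theorem lift25_c22 : allPow 122760 (liftStep [lstep W0, lstep W5, lstep W4, lstep W3, lstep W0, lstep W5, lstep W4, lstep W3, lstep W0, lstep W5, lstep W4, lstep W3, lstep W0, lstep W5, lstep W4, lstep W3, lstep W0, lstep W5, lstep W4, lstep W3] 2) 11 45056 = true := by decide +kernel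
theorem lift25_c23 : allPow 122760 (liftStep [lstep W0, lstep W5, lstep W4, lstep W3, lstep W0, lstep W5, lstep W4, lstep W3, lstep W0, lstep W5, lstep W4, lstep W3, lstep W0, lstep W5, lstep W4, lstep W3, lstep W0, lstep W5, lstep W4, lstep W3] 2) 11 47104 = true := by decide +kernel
theorem lift25_c24 : allPow 122760 (liftStep [lstep W0, lstep W5, lstep W4, lstep W3, lstep W0, lstep W5, lstep W4, lstep W3, lstep W0, lstep W5, lstep W4, lstep W3, lstep W0, lstep W5, lstep W4, lstep W3, lstep W0, lstep W5, lstep W4, lstep W3] 2) 11 49152 = true := by decide +kernel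
theorem lift25_c25 : allPow 122760 (liftStep [lstep W0, lstep W5, lstep W4, lstep W3, lstep W0, lstep W5, lstep W4, lstep W3, lstep W0, lstep W5, lstep W4, lstep W3, lstep W0, lstep W5, lstep W4, lstep W3, lstep W0, lstep W5, lstep W4, lstep W3] 2) 11 51200 = true := by decide +kernel
theorem lift25_c26 : allPow 122760 (liftStep [lstep W0, lstep W5, lstep W4, lstep W3, lstep W0, lstep W5, lstep W4, lstep W3, lstep W0, lstep W5, lstep W4, lstep W3, lstep W0, lstep W5, lstep W4, lstep W3, lstep W0, lstep W5, lstep W4, lstep W3] 2) 11 53248 = true := by decide +kernel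
theorem lift25_c27 : allPow 122760 (liftStep [lstep W0, lstep W5, lstep W4, lstep W3, lstep W0, lstep W5, lstep W4, lstep W3, lstep W0, lstep W5, lstep W4, lstep W3, lstep W0, lstep W5, lstep W4, lstep W3, lstep W0, lstep W5, lstep W4, lstep W3] 2) 11 55296 = true := by decide +kernel
theorem lift25_c28 : allPow 122760 (liftStep [lstep W0, lstep W5, lstep W4, lstep W3, lstep W0, lstep W5, lstep W4, lstep W3, lstep W0, lstep W5, lstep W4, lstep W3, lstep W0, lstep W5, lstep W4, lstep W3, lstep W0, lstep W5, lstep W4, lstep W3] 2) 11 57344 = true := by decide +kernel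
theorem lift25_c29 : allPow 122760 (liftStep [lstep W0, lstep W5, lstep W4, lstep W3, lstep W0, lstep W5, lstep W4, lstep W3, lstep W0, lstep W5, lstep W4, lstep W3, lstep W0, lstep W5, lstep W4, lstep W3, lstep W0, lstep W5, lstep W4, lstep W3] 2) 11 59392 = true := by decide +kernel
theorem lift25_c30 : allPow 122760 (liftStep [lstep W0, lstep W5, lstep W4, lstep W3, lstep W0, lstep W5, lstep W4, lstep W3, lstep W0, lstep W5, lstep W4, lstep W3, lstep W0, lstep W5, lstep W4, lstep W3, lstep W0, lstep W5, lstep W4, lstep W3] 2) 11 61440 = true := by decide +kernel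
theorem lift25_c31 : allPow 122760 (liftStep [lstep W0, lstep W5, lstep W4, lstep W3, lstep W0, lstep W5, lstep W4, lstep W3, lstep W0, lstep W5, lstep W4, lstep W3, lstep W0, lstep W5, lstep W4, lstep W3, lstep W0, lstep W5, lstep W4, lstep W3] 2) 11 63488 = true := by decide +kernel
theorem lift25_c32 : allPow 122760 (liftStep [lstep W0, lstep W5, lstep W4, lstep W3, lstep W0, lstep W5, lstep W4, lstep W3, lstep W0, lstep W5, lstep W4, lstep W3, lstep W0, lstep W5, lstep W4, lstep W3, lstep W0, lstep W5, lstep W4, lstep W3] 2) 11 65536 = true := by decide +kernel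
theorem lift25_c33 : allPow 122760 (liftStep [lstep W0, lstep W5, lstep W4, lstep W3, lstep W0, lstep W5, lstep W4, lstep W3, lstep W0, lstep W5, lstep W4, lstep W3, lstep W0, lstep W5, lstep W4, lstep W3, lstep W0, lstep W5, lstep W4, lstep W3] 2) 11 67584 = true := by decide +kernel
theorem lift25_c34 : allPow 122760 (liftStep [lstep W0, lstep W5, lstep W4, lstep W3, lstep W0, lstep W5, lstep W4, lstep W3, lstep W0, lstep W5, lstep W4, lstep W3, lstep W0, lstep W5, lstep W4, lstep W3, lstep W0, lstep W5, lstep W4, lstep W3] 2) 11 69632 = true := by decide +kernel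
theorem lift25_c35 : allPow 122760 (liftStep [lstep W0, lstep W5, lstep W4, lstep W3, lstep W0, lstep W5, lstep W4, lstep W3, lstep W0, lstep W5, lstep W4, lstep W3, lstep W0, lstep W5, lstep W4, lstep W3, lstep W0, lstep W5, lstep W4, lstep W3] 2) 11 71680 = true := by decide +kernel
theorem lift25_c36 : allPow 122760 (liftStep [lstep W0, lstep W5, lstep W4, lstep W3, lstep W0, lstep W5, lstep W4, lstep W3, lstep W0, lstep W5, lstep W4, lstep W3, lstep W0, lstep W5, lstep W4, lstep W3, lstep W0, lstep W5, lstep W4, lstep W3] 2) 11 73728 = true := by decide +kernel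
theorem lift25_c37 : allPow 122760 (liftStep [lstep W0, lstep W5, lstep W4, lstep W3, lstep W0, lstep W5, lstep W4, lstep W3, lstep W0, lstep W5, lstep W4, lstep W3, lstep W0, lstep W5, lstep W4, lstep W3, lstep W0, lstep W5, lstep W4, lstep W3] 2) 11 75776 = true := by decide +kernel
theorem lift25_c38 : allPow 122760 (liftStep [lstep W0, lstep W5, lstep W4, lstep W3, lstep W0, lstep W5, lstep W4, lstep W3, lstep W0, lstep W5, lstep W4, lstep W3, lstep W0, lstep W5, lstep W4, lstep W3, lstep W0, lstep W5, lstep W4, lstep W3] 2) 11 77824 = true := by decide +kernel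
theorem lift25_c39 : allPow 122760 (liftStep [lstep W0, lstep W5, lstep W4, lstep W3, lstep W0, lstep W5, lstep W4, lstep W3, lstep W0, lstep W5, lstep W4, lstep W3, lstep W0, lstep W5, lstep W4, lstep W3, lstep W0, lstep W5, lstep W4, lstep W3] 2) 11 79872 = true := by decide +kernel
theorem lift25_c40 : allPow 122760 (liftStep [lstep W0, lstep W5, lstep W4, lstep W3, lstep W0, lstep W5, lstep W4, lstep W3, lstep W0, lstep W5, lstep W4, lstep W3, lstep W0, lstep W5, lstep W4, lstep W3, lstep W0, lstep W5, lstep W4, lstep W3] 2) 11 81920 = true := by decide +kernel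
theorem lift25_c41 : allPow 122760 (liftStep [lstep W0, lstep W5, lstep W4, lstep W3, lstep W0, lstep W5, lstep W4, lstep W3, lstep W0, lstep W5, lstep W4, lstep W3, lstep W0, lstep W5, lstep W4, lstep W3, lstep W0, lstep W5, lstep W4, lstep W3] 2) 11 83968 = true := by decide +kernel
theorem lift25_c42 : allPow 122760 (liftStep [lstep W0, lstep W5, lstep W4, lstep W3, lstep W0, lstep W5, lstep W4, lstep W3, lstep W0, lstep W5, lstep W4, lstep W3, lstep W0, lstep W5, lstep W4, lstep W3, lstep W0, lstep W5, lstep W4, lstep W3] 2) 11 86016 = true := by decide +kernel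
theorem lift25_c43 : allPow 122760 (liftStep [lstep W0, lstep W5, lstep W4, lstep W3, lstep W0, lstep W5, lstep W4, lstep W3, lstep W0, lstep W5, lstep W4, lstep W3, lstep W0, lstep W5, lstep W4, lstep W3, lstep W0, lstep W5, lstep W4, lstep W3] 2) 11 88064 = true := by decide +kernel
theorem lift25_c44 : allPow 122760 (liftStep [lstep W0, lstep W5, lstep W4, lstep W3, lstep W0, lstep W5, lstep W4, lstep W3, lstep W0, lstep W5, lstep W4, lstep W3, lstep W0, lstep W5, lstep W4, lstep W3, lstep W0, lstep W5, lstep W4, lstep W3] 2) 11 90112 = true := by decide +kernel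
theorem lift25_c45 : allPow 122760 (liftStep [lstep W0, lstep W5, lstep W4, lstep W3, lstep W0, lstep W5, lstep W4, lstep W3, lstep W0, lstep W5, lstep W4, lstep W3, lstep W0, lstep W5, lstep W4, lstep W3, lstep W0, lstep W5, lstep W4, lstep W3] 2) 11 92160 = true := by decide +kernel
theorem lift25_c46 : allPow 122760 (liftStep [lstep W0, lstep W5, lstep W4, lstep W3, lstep W0, lstep W5, lstep W4, lstep W3, lstep W0, lstep W5, lstep W4, lstep W3, lstep W0, lstep W5, lstep W4, lstep W3, lstep W0, lstep W5, lstep W4, lstep W3] 2) 11 94208 = true := by decide +kernel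
theorem lift25_c47 : allPow 122760 (liftStep [lstep W0, lstep W5, lstep W4, lstep W3, lstep W0, lstep W5, lstep W4, lstep W3, lstep W0, lstep W5, lstep W4, lstep W3, lstep W0, lstep W5, lstep W4, lstep W3, lstep W0, lstep W5, lstep W4, lstep W3] 2) 11 96256 = true := by decide +kernel
theorem lift25_c48 : allPow 122760 (liftStep [lstep W0, lstep W5, lstep W4, lstep W3, lstep W0, lstep W5, lstep W4, lstep W3, lstep W0, lstep W5, lstep W4, lstep W3, lstep W0, lstep W5, lstep W4, lstep W3, lstep W0, lstep W5, lstep W4, lstep W3] 2) 11 98304 = true := by decide +kernel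
theorem lift25_c49 : allPow 122760 (liftStep [lstep W0, lstep W5, lstep W4, lstep W3, lstep W0, lstep W5, lstep W4, lstep W3, lstep W0, lstep W5, lstep W4, lstep W3, lstep W0, lstep W5, lstep W4, lstep W3, lstep W0, lstep W5, lstep W4, lstep W3] 2) 11 100352 = true := by decide +kernel
theorem lift25_c50 : allPow 122760 (liftStep [lstep W0, lstep W5, lstep W4, lstep W3, lstep W0, lstep W5, lstep W4, lstep W3, lstep W0, lstep W5, lstep W4, lstep W3, lstep W0, lstep W5, lstep W4, lstep W3, lstep W0, lstep W5, lstep W4, lstep W3] 2) 11 102400 = true := by decide +kernel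
theorem lift25_c51 : allPow 122760 (liftStep [lstep W0, lstep W5, lstep W4, lstep W3, lstep W0, lstep W5, lstep W4, lstep W3, lstep W0, lstep W5, lstep W4, lstep W3, lstep W0, lstep W5, lstep W4, lstep W3, lstep W0, lstep W5, lstep W4, lstep W3] 2) 11 104448 = true := by decide +kernel
theorem lift25_c52 : allPow 122760 (liftStep [lstep W0, lstep W5, lstep W4, lstep W3, lstep W0, lstep W5, lstep W4, lstep W3, lstep W0, lstep W5, lstep W4, lstep W3, lstep W0, lstep W5, lstep W4, lstep W3, lstep W0, lstep W5, lstep W4, lstep W3] 2) 11 106496 = true := by decide +kernel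
theorem lift25_c53 : allPow 122760 (liftStep [lstep W0, lstep W5, lstep W4, lstep W3, lstep W0, lstep W5, lstep W4, lstep W3, lstep W0, lstep W5, lstep W4, lstep W3, lstep W0, lstep W5, lstep W4, lstep W3, lstep W0, lstep W5, lstep W4, lstep W3] 2) 11 108544 = true := by decide +kernel
theorem lift25_c54 : allPow 122760 (liftStep [lstep W0, lstep W5, lstep W4, lstep W3, lstep W0, lstep W5, lstep W4, lstep W3, lstep W0, lstep W5, lstep W4, lstep W3, lstep W0, lstep W5, lstep W4, lstep W3, lstep W0, lstep W5, lstep W4, lstep W3] 2) 11 110592 = true := by decide +kernel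
theorem lift25_c55 : allPow 122760 (liftStep [lstep W0, lstep W5, lstep W4, lstep W3, lstep W0, lstep W5, lstep W4, lstep W3, lstep W0, lstep W5, lstep W4, lstep W3, lstep W0, lstep W5, lstep W4, lstep W3, lstep W0, lstep W5, lstep W4, lstep W3] 2) 11 112640 = true := by decide +kernel
theorem lift25_c56 : allPow 122760 (liftStep [lstep W0, lstep W5, lstep W4, lstep W3, lstep W0, lstep W5, lstep W4, lstep W3, lstep W0, lstep W5, lstep W4, lstep W3, lstep W0, lstep W5, lstep W4, lstep W3, lstep W0, lstep W5, lstep W4, lstep W3] 2) 11 114688 = true := by decide +kernel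
theorem lift25_c57 : allPow 122760 (liftStep [lstep W0, lstep W5, lstep W4, lstep W3, lstep W0, lstep W5, lstep W4, lstep W3, lstep W0, lstep W5, lstep W4, lstep W3, lstep W0, lstep W5, lstep W4, lstep W3, lstep W0, lstep W5, lstep W4, lstep W3] 2) 11 116736 = true := by decide +kernel
theorem lift25_c58 : allPow 122760 (liftStep [lstep W0, lstep W5, lstep W4, lstep W3, lstep W0, lstep W5, lstep W4, lstep W3, lstep W0, lstep W5, lstep W4, lstep W3, lstep W0, lstep W5, lstep W4, lstep W3, lstep W0, lstep W5, lstep W4, lstep W3] 2) 11 118784 = true := by decide +kernel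
theorem lift25_c59 : allPow 122760 (liftStep [lstep W0, lstep W5, lstep W4, lstep W3, lstep W0, lstep W5, lstep W4, lstep W3, lstep W0, lstep W5, lstep W4, lstep W3, lstep W0, lstep W5, lstep W4, lstep W3, lstep W0, lstep W5, lstep W4, lstep W3] 2) 11 120832 = true := by decide +kernel
theorem lift25 : allBelow 17 122760 (liftStep [lstep W0, lstep W5, lstep W4, lstep W3, lstep W0, lstep W5, lstep W4, lstep W3, lstep W0, lstep W5, lstep W4, lstep W3, lstep W0, lstep W5, lstep W4, lstep W3, lstep W0, lstep W5, lstep W4, lstep W3] 2) = true :=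
  allBelow_of_upto (hi := 122880)
    (Upto.trans (mid := 61440) (Upto.trans (mid := 30720) (Upto.trans (mid := 14336) (Upto.trans (mid := 6144) (Upto.trans (mid := 2048) ((Upto.of_pow lift25_c0 (Nat.le_refl _)) : Upto _ _ 0 (0 + 2 ^ 11))
    (Upto.trans (mid := 4096) ((Upto.of_pow lift25_c1 (Nat.le_refl _)) : Upto _ _ 2048 (2048 + 2 ^ 11))
    ((Upto.of_pow lift25_c2 (Nat.le_refl _)) : Upto _ _ 4096 (4096 + 2 ^ 11))))
    (Upto.trans (mid := 10240) (Upto.trans (mid := 8192) ((Upto.of_pow lift25_c3 (Nat.le_refl _)) : Upto _ _ 6144 (6144 + 2 ^ 11))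
    ((Upto.of_pow lift25_c4 (Nat.le_refl _)) : Upto _ _ 8192 (8192 + 2 ^ 11)))
    (Upto.trans (mid := 12288) ((Upto.of_pow lift25_c5 (Nat.le_refl _)) : Upto _ _ 10240 (10240 + 2 ^ 11))
    ((Upto.of_pow lift25_c6 (Nat.le_refl _)) : Upto _ _ 12288 (12288 + 2 ^ 11)))))
    (Upto.trans (mid := 22528) (Upto.trans (mid := 18432) (Upto.trans (mid := 16384) ((Upto.of_pow lift25_c7 (Nat.le_refl _)) : Upto _ _ 14336 (14336 + 2 ^ 11))
    ((Upto.of_pow lift25_c8 (Nat.le_refl _)) : Upto _ _ 16384 (16384 + 2 ^ 11)))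
    (Upto.trans (mid := 20480) ((Upto.of_pow lift25_c9 (Nat.le_refl _)) : Upto _ _ 18432 (18432 + 2 ^ 11))
    ((Upto.of_pow lift25_c10 (Nat.le_refl _)) : Upto _ _ 20480 (20480 + 2 ^ 11))))
    (Upto.trans (mid := 26624) (Upto.trans (mid := 24576) ((Upto.of_pow lift25_c11 (Nat.le_refl _)) : Upto _ _ 22528 (22528 + 2 ^ 11))
    ((Upto.of_pow lift25_c12 (Nat.le_refl _)) : Upto _ _ 24576 (24576 + 2 ^ 11)))
    (Upto.trans (mid := 28672) ((Upto.of_pow lift25_c13 (Nat.le_refl _)) : Upto _ _ 26624 (26624 + 2 ^ 11))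
    ((Upto.of_pow lift25_c14 (Nat.le_refl _)) : Upto _ _ 28672 (28672 + 2 ^ 11))))))
    (Upto.trans (mid := 45056) (Upto.trans (mid := 36864) (Upto.trans (mid := 32768) ((Upto.of_pow lift25_c15 (Nat.le_refl _)) : Upto _ _ 30720 (30720 + 2 ^ 11))
    (Upto.trans (mid := 34816) ((Upto.of_pow lift25_c16 (Nat.le_refl _)) : Upto _ _ 32768 (32768 + 2 ^ 11))
    ((Upto.of_pow lift25_c17 (Nat.le_refl _)) : Upto _ _ 34816 (34816 + 2 ^ 11))))
    (Upto.trans (mid := 40960) (Upto.trans (mid := 38912) ((Upto.of_pow lift25_c18 (Nat.le_refl _)) : Upto _ _ 36864 (36864 + 2 ^ 11))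
    ((Upto.of_pow lift25_c19 (Nat.le_refl _)) : Upto _ _ 38912 (38912 + 2 ^ 11)))
    (Upto.trans (mid := 43008) ((Upto.of_pow lift25_c20 (Nat.le_refl _)) : Upto _ _ 40960 (40960 + 2 ^ 11))
    ((Upto.of_pow lift25_c21 (Nat.le_refl _)) : Upto _ _ 43008 (43008 + 2 ^ 11)))))
    (Upto.trans (mid := 53248) (Upto.trans (mid := 49152) (Upto.trans (mid := 47104) ((Upto.of_pow lift25_c22 (Nat.le_refl _)) : Upto _ _ 45056 (45056 + 2 ^ 11))
    ((Upto.of_pow lift25_c23 (Nat.le_refl _)) : Upto _ _ 47104 (47104 + 2 ^ 11)))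
    (Upto.trans (mid := 51200) ((Upto.of_pow lift25_c24 (Nat.le_refl _)) : Upto _ _ 49152 (49152 + 2 ^ 11))
    ((Upto.of_pow lift25_c25 (Nat.le_refl _)) : Upto _ _ 51200 (51200 + 2 ^ 11))))
    (Upto.trans (mid := 57344) (Upto.trans (mid := 55296) ((Upto.of_pow lift25_c26 (Nat.le_refl _)) : Upto _ _ 53248 (53248 + 2 ^ 11))
    ((Upto.of_pow lift25_c27 (Nat.le_refl _)) : Upto _ _ 55296 (55296 + 2 ^ 11)))
    (Upto.trans (mid := 59392) ((Upto.of_pow lift25_c28 (Nat.le_refl _)) : Upto _ _ 57344 (57344 + 2 ^ 11))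
    ((Upto.of_pow lift25_c29 (Nat.le_refl _)) : Upto _ _ 59392 (59392 + 2 ^ 11)))))))
    (Upto.trans (mid := 92160) (Upto.trans (mid := 75776) (Upto.trans (mid := 67584) (Upto.trans (mid := 63488) ((Upto.of_pow lift25_c30 (Nat.le_refl _)) : Upto _ _ 61440 (61440 + 2 ^ 11))
    (Upto.trans (mid := 65536) ((Upto.of_pow lift25_c31 (Nat.le_refl _)) : Upto _ _ 63488 (63488 + 2 ^ 11))
    ((Upto.of_pow lift25_c32 (Nat.le_refl _)) : Upto _ _ 65536 (65536 + 2 ^ 11))))
    (Upto.trans (mid := 71680) (Upto.trans (mid := 69632) ((Upto.of_pow lift25_c33 (Nat.le_refl _)) : Upto _ _ 67584 (67584 + 2 ^ 11))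
    ((Upto.of_pow lift25_c34 (Nat.le_refl _)) : Upto _ _ 69632 (69632 + 2 ^ 11)))
    (Upto.trans (mid := 73728) ((Upto.of_pow lift25_c35 (Nat.le_refl _)) : Upto _ _ 71680 (71680 + 2 ^ 11))
    ((Upto.of_pow lift25_c36 (Nat.le_refl _)) : Upto _ _ 73728 (73728 + 2 ^ 11)))))
    (Upto.trans (mid := 83968) (Upto.trans (mid := 79872) (Upto.trans (mid := 77824) ((Upto.of_pow lift25_c37 (Nat.le_refl _)) : Upto _ _ 75776 (75776 + 2 ^ 11))
    ((Upto.of_pow lift25_c38 (Nat.le_refl _)) : Upto _ _ 77824 (77824 + 2 ^ 11)))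
    (Upto.trans (mid := 81920) ((Upto.of_pow lift25_c39 (Nat.le_refl _)) : Upto _ _ 79872 (79872 + 2 ^ 11))
    ((Upto.of_pow lift25_c40 (Nat.le_refl _)) : Upto _ _ 81920 (81920 + 2 ^ 11))))
    (Upto.trans (mid := 88064) (Upto.trans (mid := 86016) ((Upto.of_pow lift25_c41 (Nat.le_refl _)) : Upto _ _ 83968 (83968 + 2 ^ 11))
    ((Upto.of_pow lift25_c42 (Nat.le_refl _)) : Upto _ _ 86016 (86016 + 2 ^ 11)))
    (Upto.trans (mid := 90112) ((Upto.of_pow lift25_c43 (Nat.le_refl _)) : Upto _ _ 88064 (88064 + 2 ^ 11))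
    ((Upto.of_pow lift25_c44 (Nat.le_refl _)) : Upto _ _ 90112 (90112 + 2 ^ 11))))))
    (Upto.trans (mid := 106496) (Upto.trans (mid := 98304) (Upto.trans (mid := 94208) ((Upto.of_pow lift25_c45 (Nat.le_refl _)) : Upto _ _ 92160 (92160 + 2 ^ 11))
    (Upto.trans (mid := 96256) ((Upto.of_pow lift25_c46 (Nat.le_refl _)) : Upto _ _ 94208 (94208 + 2 ^ 11))
    ((Upto.of_pow lift25_c47 (Nat.le_refl _)) : Upto _ _ 96256 (96256 + 2 ^ 11))))
    (Upto.trans (mid := 102400) (Upto.trans (mid := 100352) ((Upto.of_pow lift25_c48 (Nat.le_refl _)) : Upto _ _ 98304 (98304 + 2 ^ 11))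
    ((Upto.of_pow lift25_c49 (Nat.le_refl _)) : Upto _ _ 100352 (100352 + 2 ^ 11)))
    (Upto.trans (mid := 104448) ((Upto.of_pow lift25_c50 (Nat.le_refl _)) : Upto _ _ 102400 (102400 + 2 ^ 11))
    ((Upto.of_pow lift25_c51 (Nat.le_refl _)) : Upto _ _ 104448 (104448 + 2 ^ 11)))))
    (Upto.trans (mid := 114688) (Upto.trans (mid := 110592) (Upto.trans (mid := 108544) ((Upto.of_pow lift25_c52 (Nat.le_refl _)) : Upto _ _ 106496 (106496 + 2 ^ 11))
    ((Upto.of_pow lift25_c53 (Nat.le_refl _)) : Upto _ _ 108544 (108544 + 2 ^ 11)))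
    (Upto.trans (mid := 112640) ((Upto.of_pow lift25_c54 (Nat.le_refl _)) : Upto _ _ 110592 (110592 + 2 ^ 11))
    ((Upto.of_pow lift25_c55 (Nat.le_refl _)) : Upto _ _ 112640 (112640 + 2 ^ 11))))
    (Upto.trans (mid := 118784) (Upto.trans (mid := 116736) ((Upto.of_pow lift25_c56 (Nat.le_refl _)) : Upto _ _ 114688 (114688 + 2 ^ 11))
    ((Upto.of_pow lift25_c57 (Nat.le_refl _)) : Upto _ _ 116736 (116736 + 2 ^ 11)))
    (Upto.trans (mid := 120832) ((Upto.of_pow lift25_c58 (Nat.le_refl _)) : Upto _ _ 118784 (118784 + 2 ^ 11))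
    ((Upto.of_pow lift25_c59 (Nat.le_refl _)) : Upto _ _ 120832 (120832 + 2 ^ 11))))))))
    (by decide) (by decide)
theorem lift6_c0 : allPow 122760 (liftStep [lstep W3, lstep W3] 0) 11 0 = true := by decide +kernel
theorem lift6_c1 : allPow 122760 (liftStep [lstep W3, lstep W3] 0) 11 2048 = true := by decide +kernel
theorem lift6_c2 : allPow 122760 (liftStep [lstep W3, lstep W3] 0) 11 4096 = true := by decide +kernel
theorem lift6_c3 : allPow 122760 (liftStep [lstep W3, lstep W3] 0) 11 6144 = true := by decide +kernel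
theorem lift6_c4 : allPow 122760 (liftStep [lstep W3, lstep W3] 0) 11 8192 = true := by decide +kernel
theorem lift6_c5 : allPow 122760 (liftStep [lstep W3, lstep W3] 0) 11 10240 = true := by decide +kernel
theorem lift6_c6 : allPow 122760 (liftStep [lstep W3, lstep W3] 0) 11 12288 = true := by decide +kernel
theorem lift6_c7 : allPow 122760 (liftStep [lstep W3, lstep W3] 0) 11 14336 = true := by decide +kernel
theorem lift6_c8 : allPow 122760 (liftStep [lstep W3, lstep W3] 0) 11 16384 = true := by decide +kernel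
theorem lift6_c9 : allPow 122760 (liftStep [lstep W3, lstep W3] 0) 11 18432 = true := by decide +kernel
theorem lift6_c10 : allPow 122760 (liftStep [lstep W3, lstep W3] 0) 11 20480 = true := by decide +kernel
theorem lift6_c11 : allPow 122760 (liftStep [lstep W3, lstep W3] 0) 11 22528 = true := by decide +kernel
theorem lift6_c12 : allPow 122760 (liftStep [lstep W3, lstep W3] 0) 11 24576 = true := by decide +kernel
theorem lift6_c13 : allPow 122760 (liftStep [lstep W3, lstep W3] 0) 11 26624 = true := by decide +kernel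
theorem lift6_c14 : allPow 122760 (liftStep [lstep W3, lstep W3] 0) 11 28672 = true := by decide +kernel
theorem lift6_c15 : allPow 122760 (liftStep [lstep W3, lstep W3] 0) 11 30720 = true := by decide +kernel
theorem lift6_c16 : allPow 122760 (liftStep [lstep W3, lstep W3] 0) 11 32768 = true := by decide +kernel
theorem lift6_c17 : allPow 122760 (liftStep [lstep W3, lstep W3] 0) 11 34816 = true := by decide +kernel
theorem lift6_c18 : allPow 122760 (liftStep [lstep W3, lstep W3] 0) 11 36864 = true := by decide +kernel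
theorem lift6_c19 : allPow 122760 (liftStep [lstep W3, lstep W3] 0) 11 38912 = true := by decide +kernel
theorem lift6_c20 : allPow 122760 (liftStep [lstep W3, lstep W3] 0) 11 40960 = true := by decide +kernel
theorem lift6_c21 : allPow 122760 (liftStep [lstep W3, lstep W3] 0) 11 43008 = true := by decide +kernel
theorem lift6_c22 : allPow 122760 (liftStep [lstep W3, lstep W3] 0) 11 45056 = true := by decide +kernel
theorem lift6_c23 : allPow 122760 (liftStep [lstep W3, lstep W3] 0) 11 47104 = true := by decide +kernel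
theorem lift6_c24 : allPow 122760 (liftStep [lstep W3, lstep W3] 0) 11 49152 = true := by decide +kernel
theorem lift6_c25 : allPow 122760 (liftStep [lstep W3, lstep W3] 0) 11 51200 = true := by decide +kernel
theorem lift6_c26 : allPow 122760 (liftStep [lstep W3, lstep W3] 0) 11 53248 = true := by decide +kernel
theorem lift6_c27 : allPow 122760 (liftStep [lstep W3, lstep W3] 0) 11 55296 = true := by decide +kernel
theorem lift6_c28 : allPow 122760 (liftStep [lstep W3, lstep W3] 0) 11 57344 = true := by decide +kernel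
theorem lift6_c29 : allPow 122760 (liftStep [lstep W3, lstep W3] 0) 11 59392 = true := by decide +kernel
theorem lift6_c30 : allPow 122760 (liftStep [lstep W3, lstep W3] 0) 11 61440 = true := by decide +kernel
theorem lift6_c31 : allPow 122760 (liftStep [lstep W3, lstep W3] 0) 11 63488 = true := by decide +kernel
theorem lift6_c32 : allPow 122760 (liftStep [lstep W3, lstep W3] 0) 11 65536 = true := by decide +kernel
theorem lift6_c33 : allPow 122760 (liftStep [lstep W3, lstep W3] 0) 11 67584 = true := by decide +kernel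
theorem lift6_c34 : allPow 122760 (liftStep [lstep W3, lstep W3] 0) 11 69632 = true := by decide +kernel
theorem lift6_c35 : allPow 122760 (liftStep [lstep W3, lstep W3] 0) 11 71680 = true := by decide +kernel
theorem lift6_c36 : allPow 122760 (liftStep [lstep W3, lstep W3] 0) 11 73728 = true := by decide +kernel
theorem lift6_c37 : allPow 122760 (liftStep [lstep W3, lstep W3] 0) 11 75776 = true := by decide +kernel
theorem lift6_c38 : allPow 122760 (liftStep [lstep W3, lstep W3] 0) 11 77824 = true := by decide +kernel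
theorem lift6_c39 : allPow 122760 (liftStep [lstep W3, lstep W3] 0) 11 79872 = true := by decide +kernel
theorem lift6_c40 : allPow 122760 (liftStep [lstep W3, lstep W3] 0) 11 81920 = true := by decide +kernel
theorem lift6_c41 : allPow 122760 (liftStep [lstep W3, lstep W3] 0) 11 83968 = true := by decide +kernel
theorem lift6_c42 : allPow 122760 (liftStep [lstep W3, lstep W3] 0) 11 86016 = true := by decide +kernel
theorem lift6_c43 : allPow 122760 (liftStep [lstep W3, lstep W3] 0) 11 88064 = true := by decide +kernel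
theorem lift6_c44 : allPow 122760 (liftStep [lstep W3, lstep W3] 0) 11 90112 = true := by decide +kernel
theorem lift6_c45 : allPow 122760 (liftStep [lstep W3, lstep W3] 0) 11 92160 = true := by decide +kernel
theorem lift6_c46 : allPow 122760 (liftStep [lstep W3, lstep W3] 0) 11 94208 = true := by decide +kernel
theorem lift6_c47 : allPow 122760 (liftStep [lstep W3, lstep W3] 0) 11 96256 = true := by decide +kernel
theorem lift6_c48 : allPow 122760 (liftStep [lstep W3, lstep W3] 0) 11 98304 = true := by decide +kernel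
theorem lift6_c49 : allPow 122760 (liftStep [lstep W3, lstep W3] 0) 11 100352 = true := by decide +kernel
theorem lift6_c50 : allPow 122760 (liftStep [lstep W3, lstep W3] 0) 11 102400 = true := by decide +kernel
theorem lift6_c51 : allPow 122760 (liftStep [lstep W3, lstep W3] 0) 11 104448 = true := by decide +kernel
theorem lift6_c52 : allPow 122760 (liftStep [lstep W3, lstep W3] 0) 11 106496 = true := by decide +kernel
theorem lift6_c53 : allPow 122760 (liftStep [lstep W3, lstep W3] 0) 11 108544 = true := by decide +kernel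
theorem lift6_c54 : allPow 122760 (liftStep [lstep W3, lstep W3] 0) 11 110592 = true := by decide +kernel
theorem lift6_c55 : allPow 122760 (liftStep [lstep W3, lstep W3] 0) 11 112640 = true := by decide +kernel
theorem lift6_c56 : allPow 122760 (liftStep [lstep W3, lstep W3] 0) 11 114688 = true := by decide +kernel
theorem lift6_c57 : allPow 122760 (liftStep [lstep W3, lstep W3] 0) 11 116736 = true := by decide +kernel
theorem lift6_c58 : allPow 122760 (liftStep [lstep W3, lstep W3] 0) 11 118784 = true := by decide +kernel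
theorem lift6_c59 : allPow 122760 (liftStep [lstep W3, lstep W3] 0) 11 120832 = true := by decide +kernel
theorem lift6 : allBelow 17 122760 (liftStep [lstep W3, lstep W3] 0) = true :=
  allBelow_of_upto (hi := 122880)
    (Upto.trans (mid := 61440) (Upto.trans (mid := 30720) (Upto.trans (mid := 14336) (Upto.trans (mid := 6144) (Upto.trans (mid := 2048) ((Upto.of_pow lift6_c0 (Nat.le_refl _)) : Upto _ _ 0 (0 + 2 ^ 11))
    (Upto.trans (mid := 4096) ((Upto.of_pow lift6_c1 (Nat.le_refl _)) : Upto _ _ 2048 (2048 + 2 ^ 11))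
    ((Upto.of_pow lift6_c2 (Nat.le_refl _)) : Upto _ _ 4096 (4096 + 2 ^ 11))))
    (Upto.trans (mid := 10240) (Upto.trans (mid := 8192) ((Upto.of_pow lift6_c3 (Nat.le_refl _)) : Upto _ _ 6144 (6144 + 2 ^ 11))
    ((Upto.of_pow lift6_c4 (Nat.le_refl _)) : Upto _ _ 8192 (8192 + 2 ^ 11)))
    (Upto.trans (mid := 12288) ((Upto.of_pow lift6_c5 (Nat.le_refl _)) : Upto _ _ 10240 (10240 + 2 ^ 11))
    ((Upto.of_pow lift6_c6 (Nat.le_refl _)) : Upto _ _ 12288 (12288 + 2 ^ 11)))))
    (Upto.trans (mid := 22528) (Upto.trans (mid := 18432) (Upto.trans (mid := 16384) ((Upto.of_pow lift6_c7 (Nat.le_refl _)) : Upto _ _ 14336 (14336 + 2 ^ 11))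
    ((Upto.of_pow lift6_c8 (Nat.le_refl _)) : Upto _ _ 16384 (16384 + 2 ^ 11)))
    (Upto.trans (mid := 20480) ((Upto.of_pow lift6_c9 (Nat.le_refl _)) : Upto _ _ 18432 (18432 + 2 ^ 11))
    ((Upto.of_pow lift6_c10 (Nat.le_refl _)) : Upto _ _ 20480 (20480 + 2 ^ 11))))
    (Upto.trans (mid := 26624) (Upto.trans (mid := 24576) ((Upto.of_pow lift6_c11 (Nat.le_refl _)) : Upto _ _ 22528 (22528 + 2 ^ 11))
    ((Upto.of_pow lift6_c12 (Nat.le_refl _)) : Upto _ _ 24576 (24576 + 2 ^ 11)))
    (Upto.trans (mid := 28672) ((Upto.of_pow lift6_c13 (Nat.le_refl _)) : Upto _ _ 26624 (26624 + 2 ^ 11))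
    ((Upto.of_pow lift6_c14 (Nat.le_refl _)) : Upto _ _ 28672 (28672 + 2 ^ 11))))))
    (Upto.trans (mid := 45056) (Upto.trans (mid := 36864) (Upto.trans (mid := 32768) ((Upto.of_pow lift6_c15 (Nat.le_refl _)) : Upto _ _ 30720 (30720 + 2 ^ 11))
    (Upto.trans (mid := 34816) ((Upto.of_pow lift6_c16 (Nat.le_refl _)) : Upto _ _ 32768 (32768 + 2 ^ 11))
    ((Upto.of_pow lift6_c17 (Nat.le_refl _)) : Upto _ _ 34816 (34816 + 2 ^ 11))))
    (Upto.trans (mid := 40960) (Upto.trans (mid := 38912) ((Upto.of_pow lift6_c18 (Nat.le_refl _)) : Upto _ _ 36864 (36864 + 2 ^ 11))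
    ((Upto.of_pow lift6_c19 (Nat.le_refl _)) : Upto _ _ 38912 (38912 + 2 ^ 11)))
    (Upto.trans (mid := 43008) ((Upto.of_pow lift6_c20 (Nat.le_refl _)) : Upto _ _ 40960 (40960 + 2 ^ 11))
    ((Upto.of_pow lift6_c21 (Nat.le_refl _)) : Upto _ _ 43008 (43008 + 2 ^ 11)))))
    (Upto.trans (mid := 53248) (Upto.trans (mid := 49152) (Upto.trans (mid := 47104) ((Upto.of_pow lift6_c22 (Nat.le_refl _)) : Upto _ _ 45056 (45056 + 2 ^ 11))
    ((Upto.of_pow lift6_c23 (Nat.le_refl _)) : Upto _ _ 47104 (47104 + 2 ^ 11)))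
    (Upto.trans (mid := 51200) ((Upto.of_pow lift6_c24 (Nat.le_refl _)) : Upto _ _ 49152 (49152 + 2 ^ 11))
    ((Upto.of_pow lift6_c25 (Nat.le_refl _)) : Upto _ _ 51200 (51200 + 2 ^ 11))))
    (Upto.trans (mid := 57344) (Upto.trans (mid := 55296) ((Upto.of_pow lift6_c26 (Nat.le_refl _)) : Upto _ _ 53248 (53248 + 2 ^ 11))
    ((Upto.of_pow lift6_c27 (Nat.le_refl _)) : Upto _ _ 55296 (55296 + 2 ^ 11)))
    (Upto.trans (mid := 59392) ((Upto.of_pow lift6_c28 (Nat.le_refl _)) : Upto _ _ 57344 (57344 + 2 ^ 11))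
    ((Upto.of_pow lift6_c29 (Nat.le_refl _)) : Upto _ _ 59392 (59392 + 2 ^ 11)))))))
    (Upto.trans (mid := 92160) (Upto.trans (mid := 75776) (Upto.trans (mid := 67584) (Upto.trans (mid := 63488) ((Upto.of_pow lift6_c30 (Nat.le_refl _)) : Upto _ _ 61440 (61440 + 2 ^ 11))
    (Upto.trans (mid := 65536) ((Upto.of_pow lift6_c31 (Nat.le_refl _)) : Upto _ _ 63488 (63488 + 2 ^ 11))
    ((Upto.of_pow lift6_c32 (Nat.le_refl _)) : Upto _ _ 65536 (65536 + 2 ^ 11))))
    (Upto.trans (mid := 71680) (Upto.trans (mid := 69632) ((Upto.of_pow lift6_c33 (Nat.le_refl _)) : Upto _ _ 67584 (67584 + 2 ^ 11))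
    ((Upto.of_pow lift6_c34 (Nat.le_refl _)) : Upto _ _ 69632 (69632 + 2 ^ 11)))
    (Upto.trans (mid := 73728) ((Upto.of_pow lift6_c35 (Nat.le_refl _)) : Upto _ _ 71680 (71680 + 2 ^ 11))
    ((Upto.of_pow lift6_c36 (Nat.le_refl _)) : Upto _ _ 73728 (73728 + 2 ^ 11)))))
    (Upto.trans (mid := 83968) (Upto.trans (mid := 79872) (Upto.trans (mid := 77824) ((Upto.of_pow lift6_c37 (Nat.le_refl _)) : Upto _ _ 75776 (75776 + 2 ^ 11))
    ((Upto.of_pow lift6_c38 (Nat.le_refl _)) : Upto _ _ 77824 (77824 + 2 ^ 11)))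
    (Upto.trans (mid := 81920) ((Upto.of_pow lift6_c39 (Nat.le_refl _)) : Upto _ _ 79872 (79872 + 2 ^ 11))
    ((Upto.of_pow lift6_c40 (Nat.le_refl _)) : Upto _ _ 81920 (81920 + 2 ^ 11))))
    (Upto.trans (mid := 88064) (Upto.trans (mid := 86016) ((Upto.of_pow lift6_c41 (Nat.le_refl _)) : Upto _ _ 83968 (83968 + 2 ^ 11))
    ((Upto.of_pow lift6_c42 (Nat.le_refl _)) : Upto _ _ 86016 (86016 + 2 ^ 11)))
    (Upto.trans (mid := 90112) ((Upto.of_pow lift6_c43 (Nat.le_refl _)) : Upto _ _ 88064 (88064 + 2 ^ 11))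
    ((Upto.of_pow lift6_c44 (Nat.le_refl _)) : Upto _ _ 90112 (90112 + 2 ^ 11))))))
    (Upto.trans (mid := 106496) (Upto.trans (mid := 98304) (Upto.trans (mid := 94208) ((Upto.of_pow lift6_c45 (Nat.le_refl _)) : Upto _ _ 92160 (92160 + 2 ^ 11))
    (Upto.trans (mid := 96256) ((Upto.of_pow lift6_c46 (Nat.le_refl _)) : Upto _ _ 94208 (94208 + 2 ^ 11))
    ((Upto.of_pow lift6_c47 (Nat.le_refl _)) : Upto _ _ 96256 (96256 + 2 ^ 11))))
    (Upto.trans (mid := 102400) (Upto.trans (mid := 100352) ((Upto.of_pow lift6_c48 (Nat.le_refl _)) : Upto _ _ 98304 (98304 + 2 ^ 11))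
    ((Upto.of_pow lift6_c49 (Nat.le_refl _)) : Upto _ _ 100352 (100352 + 2 ^ 11)))
    (Upto.trans (mid := 104448) ((Upto.of_pow lift6_c50 (Nat.le_refl _)) : Upto _ _ 102400 (102400 + 2 ^ 11))
    ((Upto.of_pow lift6_c51 (Nat.le_refl _)) : Upto _ _ 104448 (104448 + 2 ^ 11)))))
    (Upto.trans (mid := 114688) (Upto.trans (mid := 110592) (Upto.trans (mid := 108544) ((Upto.of_pow lift6_c52 (Nat.le_refl _)) : Upto _ _ 106496 (106496 + 2 ^ 11))
    ((Upto.of_pow lift6_c53 (Nat.le_refl _)) : Upto _ _ 108544 (108544 + 2 ^ 11)))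
    (Upto.trans (mid := 112640) ((Upto.of_pow lift6_c54 (Nat.le_refl _)) : Upto _ _ 110592 (110592 + 2 ^ 11))
    ((Upto.of_pow lift6_c55 (Nat.le_refl _)) : Upto _ _ 112640 (112640 + 2 ^ 11))))
    (Upto.trans (mid := 118784) (Upto.trans (mid := 116736) ((Upto.of_pow lift6_c56 (Nat.le_refl _)) : Upto _ _ 114688 (114688 + 2 ^ 11))
    ((Upto.of_pow lift6_c57 (Nat.le_refl _)) : Upto _ _ 116736 (116736 + 2 ^ 11)))
    (Upto.trans (mid := 120832) ((Upto.of_pow lift6_c58 (Nat.le_refl _)) : Upto _ _ 118784 (118784 + 2 ^ 11))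
    ((Upto.of_pow lift6_c59 (Nat.le_refl _)) : Upto _ _ 120832 (120832 + 2 ^ 11))))))))
    (by decide) (by decide)
theorem pair3_c0 : allPow 122760 (pairStep W3 W3 122760) 11 0 = true := by decide +kernel
theorem pair3_c1 : allPow 122760 (pairStep W3 W3 122760) 11 2048 = true := by decide +kernel
theorem pair3_c2 : allPow 122760 (pairStep W3 W3 122760) 11 4096 = true := by decide +kernel
theorem pair3_c3 : allPow 122760 (pairStep W3 W3 122760) 11 6144 = true := by decide +kernel
theorem pair3_c4 : allPow 122760 (pairStep W3 W3 122760) 11 8192 = true := by decide +kernel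
theorem pair3_c5 : allPow 122760 (pairStep W3 W3 122760) 11 10240 = true := by decide +kernel
theorem pair3_c6 : allPow 122760 (pairStep W3 W3 122760) 11 12288 = true := by decide +kernel
theorem pair3_c7 : allPow 122760 (pairStep W3 W3 122760) 11 14336 = true := by decide +kernel
theorem pair3_c8 : allPow 122760 (pairStep W3 W3 122760) 11 16384 = true := by decide +kernel
theorem pair3_c9 : allPow 122760 (pairStep W3 W3 122760) 11 18432 = true := by decide +kernel
theorem pair3_c10 : allPow 122760 (pairStep W3 W3 122760) 11 20480 = true := by decide +kernel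
theorem pair3_c11 : allPow 122760 (pairStep W3 W3 122760) 11 22528 = true := by decide +kernel
theorem pair3_c12 : allPow 122760 (pairStep W3 W3 122760) 11 24576 = true := by decide +kernel
theorem pair3_c13 : allPow 122760 (pairStep W3 W3 122760) 11 26624 = true := by decide +kernel
theorem pair3_c14 : allPow 122760 (pairStep W3 W3 122760) 11 28672 = true := by decide +kernel
theorem pair3_c15 : allPow 122760 (pairStep W3 W3 122760) 11 30720 = true := by decide +kernel
theorem pair3_c16 : allPow 122760 (pairStep W3 W3 122760) 11 32768 = true := by decide +kernel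
theorem pair3_c17 : allPow 122760 (pairStep W3 W3 122760) 11 34816 = true := by decide +kernel
theorem pair3_c18 : allPow 122760 (pairStep W3 W3 122760) 11 36864 = true := by decide +kernel
theorem pair3_c19 : allPow 122760 (pairStep W3 W3 122760) 11 38912 = true := by decide +kernel
theorem pair3_c20 : allPow 122760 (pairStep W3 W3 122760) 11 40960 = true := by decide +kernel
theorem pair3_c21 : allPow 122760 (pairStep W3 W3 122760) 11 43008 = true := by decide +kernel
theorem pair3_c22 : allPow 122760 (pairStep W3 W3 122760) 11 45056 = true := by decide +kernel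
theorem pair3_c23 : allPow 122760 (pairStep W3 W3 122760) 11 47104 = true := by decide +kernel
theorem pair3_c24 : allPow 122760 (pairStep W3 W3 122760) 11 49152 = true := by decide +kernel
theorem pair3_c25 : allPow 122760 (pairStep W3 W3 122760) 11 51200 = true := by decide +kernel
theorem pair3_c26 : allPow 122760 (pairStep W3 W3 122760) 11 53248 = true := by decide +kernel
theorem pair3_c27 : allPow 122760 (pairStep W3 W3 122760) 11 55296 = true := by decide +kernel
theorem pair3_c28 : allPow 122760 (pairStep W3 W3 122760) 11 57344 = true := by decide +kernel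
theorem pair3_c29 : allPow 122760 (pairStep W3 W3 122760) 11 59392 = true := by decide +kernel
theorem pair3_c30 : allPow 122760 (pairStep W3 W3 122760) 11 61440 = true := by decide +kernel
theorem pair3_c31 : allPow 122760 (pairStep W3 W3 122760) 11 63488 = true := by decide +kernel
theorem pair3_c32 : allPow 122760 (pairStep W3 W3 122760) 11 65536 = true := by decide +kernel
theorem pair3_c33 : allPow 122760 (pairStep W3 W3 122760) 11 67584 = true := by decide +kernel
theorem pair3_c34 : allPow 122760 (pairStep W3 W3 122760) 11 69632 = true := by decide +kernel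
theorem pair3_c35 : allPow 122760 (pairStep W3 W3 122760) 11 71680 = true := by decide +kernel
theorem pair3_c36 : allPow 122760 (pairStep W3 W3 122760) 11 73728 = true := by decide +kernel
theorem pair3_c37 : allPow 122760 (pairStep W3 W3 122760) 11 75776 = true := by decide +kernel
theorem pair3_c38 : allPow 122760 (pairStep W3 W3 122760) 11 77824 = true := by decide +kernel
theorem pair3_c39 : allPow 122760 (pairStep W3 W3 122760) 11 79872 = true := by decide +kernel
theorem pair3_c40 : allPow 122760 (pairStep W3 W3 122760) 11 81920 = true := by decide +kernel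
theorem pair3_c41 : allPow 122760 (pairStep W3 W3 122760) 11 83968 = true := by decide +kernel
theorem pair3_c42 : allPow 122760 (pairStep W3 W3 122760) 11 86016 = true := by decide +kernel
theorem pair3_c43 : allPow 122760 (pairStep W3 W3 122760) 11 88064 = true := by decide +kernel
theorem pair3_c44 : allPow 122760 (pairStep W3 W3 122760) 11 90112 = true := by decide +kernel
theorem pair3_c45 : allPow 122760 (pairStep W3 W3 122760) 11 92160 = true := by decide +kernel
theorem pair3_c46 : allPow 122760 (pairStep W3 W3 122760) 11 94208 = true := by decide +kernel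
theorem pair3_c47 : allPow 122760 (pairStep W3 W3 122760) 11 96256 = true := by decide +kernel
theorem pair3_c48 : allPow 122760 (pairStep W3 W3 122760) 11 98304 = true := by decide +kernel
theorem pair3_c49 : allPow 122760 (pairStep W3 W3 122760) 11 100352 = true := by decide +kernel
theorem pair3_c50 : allPow 122760 (pairStep W3 W3 122760) 11 102400 = true := by decide +kernel
theorem pair3_c51 : allPow 122760 (pairStep W3 W3 122760) 11 104448 = true := by decide +kernel
theorem pair3_c52 : allPow 122760 (pairStep W3 W3 122760) 11 106496 = true := by decide +kernel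
theorem pair3_c53 : allPow 122760 (pairStep W3 W3 122760) 11 108544 = true := by decide +kernel
theorem pair3_c54 : allPow 122760 (pairStep W3 W3 122760) 11 110592 = true := by decide +kernel
theorem pair3_c55 : allPow 122760 (pairStep W3 W3 122760) 11 112640 = true := by decide +kernel
theorem pair3_c56 : allPow 122760 (pairStep W3 W3 122760) 11 114688 = true := by decide +kernel
theorem pair3_c57 : allPow 122760 (pairStep W3 W3 122760) 11 116736 = true := by decide +kernel
theorem pair3_c58 : allPow 122760 (pairStep W3 W3 122760) 11 118784 = true := by decide +kernel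
theorem pair3_c59 : allPow 122760 (pairStep W3 W3 122760) 11 120832 = true := by decide +kernel
theorem pair3 : allBelow 17 122760 (pairStep W3 W3 122760) = true :=
  allBelow_of_upto (hi := 122880)
    (Upto.trans (mid := 61440) (Upto.trans (mid := 30720) (Upto.trans (mid := 14336) (Upto.trans (mid := 6144) (Upto.trans (mid := 2048) ((Upto.of_pow pair3_c0 (Nat.le_refl _)) : Upto _ _ 0 (0 + 2 ^ 11))
    (Upto.trans (mid := 4096) ((Upto.of_pow pair3_c1 (Nat.le_refl _)) : Upto _ _ 2048 (2048 + 2 ^ 11))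
    ((Upto.of_pow pair3_c2 (Nat.le_refl _)) : Upto _ _ 4096 (4096 + 2 ^ 11))))
    (Upto.trans (mid := 10240) (Upto.trans (mid := 8192) ((Upto.of_pow pair3_c3 (Nat.le_refl _)) : Upto _ _ 6144 (6144 + 2 ^ 11))
    ((Upto.of_pow pair3_c4 (Nat.le_refl _)) : Upto _ _ 8192 (8192 + 2 ^ 11)))
    (Upto.trans (mid := 12288) ((Upto.of_pow pair3_c5 (Nat.le_refl _)) : Upto _ _ 10240 (10240 + 2 ^ 11))
    ((Upto.of_pow pair3_c6 (Nat.le_refl _)) : Upto _ _ 12288 (12288 + 2 ^ 11)))))
    (Upto.trans (mid := 22528) (Upto.trans (mid := 18432) (Upto.trans (mid := 16384) ((Upto.of_pow pair3_c7 (Nat.le_refl _)) : Upto _ _ 14336 (14336 + 2 ^ 11))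
    ((Upto.of_pow pair3_c8 (Nat.le_refl _)) : Upto _ _ 16384 (16384 + 2 ^ 11)))
    (Upto.trans (mid := 20480) ((Upto.of_pow pair3_c9 (Nat.le_refl _)) : Upto _ _ 18432 (18432 + 2 ^ 11))
    ((Upto.of_pow pair3_c10 (Nat.le_refl _)) : Upto _ _ 20480 (20480 + 2 ^ 11))))
    (Upto.trans (mid := 26624) (Upto.trans (mid := 24576) ((Upto.of_pow pair3_c11 (Nat.le_refl _)) : Upto _ _ 22528 (22528 + 2 ^ 11))
    ((Upto.of_pow pair3_c12 (Nat.le_refl _)) : Upto _ _ 24576 (24576 + 2 ^ 11)))
    (Upto.trans (mid := 28672) ((Upto.of_pow pair3_c13 (Nat.le_refl _)) : Upto _ _ 26624 (26624 + 2 ^ 11))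
    ((Upto.of_pow pair3_c14 (Nat.le_refl _)) : Upto _ _ 28672 (28672 + 2 ^ 11))))))
    (Upto.trans (mid := 45056) (Upto.trans (mid := 36864) (Upto.trans (mid := 32768) ((Upto.of_pow pair3_c15 (Nat.le_refl _)) : Upto _ _ 30720 (30720 + 2 ^ 11))
    (Upto.trans (mid := 34816) ((Upto.of_pow pair3_c16 (Nat.le_refl _)) : Upto _ _ 32768 (32768 + 2 ^ 11))
    ((Upto.of_pow pair3_c17 (Nat.le_refl _)) : Upto _ _ 34816 (34816 + 2 ^ 11))))
    (Upto.trans (mid := 40960) (Upto.trans (mid := 38912) ((Upto.of_pow pair3_c18 (Nat.le_refl _)) : Upto _ _ 36864 (36864 + 2 ^ 11))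
    ((Upto.of_pow pair3_c19 (Nat.le_refl _)) : Upto _ _ 38912 (38912 + 2 ^ 11)))
    (Upto.trans (mid := 43008) ((Upto.of_pow pair3_c20 (Nat.le_refl _)) : Upto _ _ 40960 (40960 + 2 ^ 11))
    ((Upto.of_pow pair3_c21 (Nat.le_refl _)) : Upto _ _ 43008 (43008 + 2 ^ 11)))))
    (Upto.trans (mid := 53248) (Upto.trans (mid := 49152) (Upto.trans (mid := 47104) ((Upto.of_pow pair3_c22 (Nat.le_refl _)) : Upto _ _ 45056 (45056 + 2 ^ 11))
    ((Upto.of_pow pair3_c23 (Nat.le_refl _)) : Upto _ _ 47104 (47104 + 2 ^ 11)))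
    (Upto.trans (mid := 51200) ((Upto.of_pow pair3_c24 (Nat.le_refl _)) : Upto _ _ 49152 (49152 + 2 ^ 11))
    ((Upto.of_pow pair3_c25 (Nat.le_refl _)) : Upto _ _ 51200 (51200 + 2 ^ 11))))
    (Upto.trans (mid := 57344) (Upto.trans (mid := 55296) ((Upto.of_pow pair3_c26 (Nat.le_refl _)) : Upto _ _ 53248 (53248 + 2 ^ 11))
    ((Upto.of_pow pair3_c27 (Nat.le_refl _)) : Upto _ _ 55296 (55296 + 2 ^ 11)))
    (Upto.trans (mid := 59392) ((Upto.of_pow pair3_c28 (Nat.le_refl _)) : Upto _ _ 57344 (57344 + 2 ^ 11))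
    ((Upto.of_pow pair3_c29 (Nat.le_refl _)) : Upto _ _ 59392 (59392 + 2 ^ 11)))))))
    (Upto.trans (mid := 92160) (Upto.trans (mid := 75776) (Upto.trans (mid := 67584) (Upto.trans (mid := 63488) ((Upto.of_pow pair3_c30 (Nat.le_refl _)) : Upto _ _ 61440 (61440 + 2 ^ 11))
    (Upto.trans (mid := 65536) ((Upto.of_pow pair3_c31 (Nat.le_refl _)) : Upto _ _ 63488 (63488 + 2 ^ 11))
    ((Upto.of_pow pair3_c32 (Nat.le_refl _)) : Upto _ _ 65536 (65536 + 2 ^ 11))))
    (Upto.trans (mid := 71680) (Upto.trans (mid := 69632) ((Upto.of_pow pair3_c33 (Nat.le_refl _)) : Upto _ _ 67584 (67584 + 2 ^ 11))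
    ((Upto.of_pow pair3_c34 (Nat.le_refl _)) : Upto _ _ 69632 (69632 + 2 ^ 11)))
    (Upto.trans (mid := 73728) ((Upto.of_pow pair3_c35 (Nat.le_refl _)) : Upto _ _ 71680 (71680 + 2 ^ 11))
    ((Upto.of_pow pair3_c36 (Nat.le_refl _)) : Upto _ _ 73728 (73728 + 2 ^ 11)))))
    (Upto.trans (mid := 83968) (Upto.trans (mid := 79872) (Upto.trans (mid := 77824) ((Upto.of_pow pair3_c37 (Nat.le_refl _)) : Upto _ _ 75776 (75776 + 2 ^ 11))
    ((Upto.of_pow pair3_c38 (Nat.le_refl _)) : Upto _ _ 77824 (77824 + 2 ^ 11)))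
    (Upto.trans (mid := 81920) ((Upto.of_pow pair3_c39 (Nat.le_refl _)) : Upto _ _ 79872 (79872 + 2 ^ 11))
    ((Upto.of_pow pair3_c40 (Nat.le_refl _)) : Upto _ _ 81920 (81920 + 2 ^ 11))))
    (Upto.trans (mid := 88064) (Upto.trans (mid := 86016) ((Upto.of_pow pair3_c41 (Nat.le_refl _)) : Upto _ _ 83968 (83968 + 2 ^ 11))
    ((Upto.of_pow pair3_c42 (Nat.le_refl _)) : Upto _ _ 86016 (86016 + 2 ^ 11)))
    (Upto.trans (mid := 90112) ((Upto.of_pow pair3_c43 (Nat.le_refl _)) : Upto _ _ 88064 (88064 + 2 ^ 11))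
    ((Upto.of_pow pair3_c44 (Nat.le_refl _)) : Upto _ _ 90112 (90112 + 2 ^ 11))))))
    (Upto.trans (mid := 106496) (Upto.trans (mid := 98304) (Upto.trans (mid := 94208) ((Upto.of_pow pair3_c45 (Nat.le_refl _)) : Upto _ _ 92160 (92160 + 2 ^ 11))
    (Upto.trans (mid := 96256) ((Upto.of_pow pair3_c46 (Nat.le_refl _)) : Upto _ _ 94208 (94208 + 2 ^ 11))
    ((Upto.of_pow pair3_c47 (Nat.le_refl _)) : Upto _ _ 96256 (96256 + 2 ^ 11))))
    (Upto.trans (mid := 102400) (Upto.trans (mid := 100352) ((Upto.of_pow pair3_c48 (Nat.le_refl _)) : Upto _ _ 98304 (98304 + 2 ^ 11))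
    ((Upto.of_pow pair3_c49 (Nat.le_refl _)) : Upto _ _ 100352 (100352 + 2 ^ 11)))
    (Upto.trans (mid := 104448) ((Upto.of_pow pair3_c50 (Nat.le_refl _)) : Upto _ _ 102400 (102400 + 2 ^ 11))
    ((Upto.of_pow pair3_c51 (Nat.le_refl _)) : Upto _ _ 104448 (104448 + 2 ^ 11)))))
    (Upto.trans (mid := 114688) (Upto.trans (mid := 110592) (Upto.trans (mid := 108544) ((Upto.of_pow pair3_c52 (Nat.le_refl _)) : Upto _ _ 106496 (106496 + 2 ^ 11))
    ((Upto.of_pow pair3_c53 (Nat.le_refl _)) : Upto _ _ 108544 (108544 + 2 ^ 11)))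
    (Upto.trans (mid := 112640) ((Upto.of_pow pair3_c54 (Nat.le_refl _)) : Upto _ _ 110592 (110592 + 2 ^ 11))
    ((Upto.of_pow pair3_c55 (Nat.le_refl _)) : Upto _ _ 112640 (112640 + 2 ^ 11))))
    (Upto.trans (mid := 118784) (Upto.trans (mid := 116736) ((Upto.of_pow pair3_c56 (Nat.le_refl _)) : Upto _ _ 114688 (114688 + 2 ^ 11))
    ((Upto.of_pow pair3_c57 (Nat.le_refl _)) : Upto _ _ 116736 (116736 + 2 ^ 11)))
    (Upto.trans (mid := 120832) ((Upto.of_pow pair3_c58 (Nat.le_refl _)) : Upto _ _ 118784 (118784 + 2 ^ 11))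
    ((Upto.of_pow pair3_c59 (Nat.le_refl _)) : Upto _ _ 120832 (120832 + 2 ^ 11))))))))
    (by decide) (by decide)

end CfsgLib.ONMult
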